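import Cfsg.Agent.H439.LTwoOrdAlt
import Cfsg.Agent.OrdDiv.Main
import Cfsg.Agent.S0252
import Cfsg.Agent.S0253
import Cfsg.Agent.S0254
import Cfsg.Agent.S0255
import Cfsg.Agent.LieClassical.FieldTransfer

/-!
# Known simple groups of order `|PSL(2,q)|` or `|PSL(2,q)| / 2` (helper439)

`of_known` : a known non-abelian simple group `S` with `c |S| = |PSL(2,q)|`, `c = 1` or `2`, `q ≥ 4`, has `c = 1` and is
isomorphic to `PSL(2,q)`.
-/

set_option autoImplicit false

namespace Cfsg.Agent.H439.LTwoOrd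

open Finset Cfsg Cfsg.Agent.OrdDiv

universe u v

theorem exists_pow {F : Type} [Field F] [Fintype F] : ∃ p k : ℕ, p.Prime ∧ k ≠ 0 ∧ Fintype.card F = p ^ k := by
  obtain ⟨p, k, hp, hk, h⟩ := (isPrimePow_nat_iff _).1 (Fintype.isPrimePow_card_of_field (α := F))
  exact ⟨p, k, hp, hk.ne', h.symm⟩

theorem root_pow {q m c p k : ℕ} (hp : p.Prime) (hm : m ≠ 0) (hk : k ≠ 0) (hc : c = p ^ k) (h : c = q ^ m) :
    ∃ j : ℕ, j ≠ 0 ∧ q = p ^ j := by
  have h1 : q ∣ p ^ k := by rw [← hc, h]; exact dvd_pow_self q hm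
  obtain ⟨j, -, hj⟩ := (Nat.dvd_prime_pow hp).1 h1
  refine ⟨j, ?_, hj⟩
  rintro rfl
  rw [pow_zero] at hj
  rw [hj, one_pow, hc] at h
  exact absurd h (Nat.one_lt_pow hk hp.one_lt).ne'

theorem cop_sub {p q k : ℕ} (m : ℕ) (hm : m ≠ 0) (hp : p.Prime) (hk : k ≠ 0) (hq : q = p ^ k) :
    Nat.Coprime (q ^ m - 1) p := by
  have h1 : 1 ≤ q ^ m := by rw [hq]; exact Nat.one_le_pow _ _ (pow_pos hp.pos _)
  rw [Nat.coprime_comm, hp.coprime_iff_not_dvd]
  intro h
  have h2 : p ∣ q ^ m := by rw [hq]; exact (dvd_pow_self p hk).trans (dvd_pow_self _ hm)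
  have h3 : p ∣ q ^ m - (q ^ m - 1) := Nat.dvd_sub h2 h
  rw [Nat.sub_sub_self h1] at h3
  exact hp.one_lt.ne' (Nat.dvd_one.1 h3)

theorem cop_add {p q k : ℕ} (m : ℕ) (hm : m ≠ 0) (hp : p.Prime) (hk : k ≠ 0) (hq : q = p ^ k) :
    Nat.Coprime (q ^ m + 1) p := by
  rw [Nat.coprime_comm, hp.coprime_iff_not_dvd]
  intro h
  have h2 : p ∣ q ^ m := by rw [hq]; exact (dvd_pow_self p hk).trans (dvd_pow_self _ hm)
  have h3 : p ∣ 1 := (Nat.dvd_add_right h2).1 h
  exact hp.one_lt.ne' (Nat.dvd_one.1 h3)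

theorem eqn_psl {F : Type v} [Field F] [Fintype F] :
    Eqn 1 (Nat.card (Matrix.ProjectiveSpecialLinearGroup (Fin 2) F)) (Fintype.card F) := by
  have h := S0243.result (F := F) rfl 2 le_rfl
  rw [Fin.prod_univ_two] at h
  have hq : 1 < Fintype.card F := Fintype.one_lt_card
  unfold Eqn
  set N := Nat.card (Matrix.ProjectiveSpecialLinearGroup (Fin 2) F)
  set q := Fintype.card F
  obtain ⟨x, hx⟩ := Nat.exists_eq_add_of_le' (show 2 ≤ q by omega)
  rw [hx] at h ⊢
  have e1 : (x + 2) ^ 2 - (x + 2) ^ ((0 : Fin 2) : ℕ) = (x + 1) * (x + 3) := by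
    have : (x + 2) ^ 2 = (x + 1) * (x + 3) + 1 := by ring
    rw [this]; simp
  have e2 : (x + 2) ^ 2 - (x + 2) ^ ((1 : Fin 2) : ℕ) = (x + 2) * (x + 1) := by
    have : (x + 2) ^ 2 = (x + 2) * (x + 1) + (x + 2) := by ring
    rw [this]; simp
  have e3 : x + 2 - 1 = x + 1 := by omega
  rw [e1, e2, e3] at h
  rw [e3]
  have h2 : (x + 1) * (1 * N * Nat.gcd 2 (x + 1)) = (x + 1) * ((x + 2) * ((x + 1) * (x + 2 + 1))) := by
    linarith
  exact Nat.eq_of_mul_eq_mul_left (by omega) h2

/-- fields of equal cardinality -/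
theorem psl_congr {F : Type u} {K : Type v} [Field F] [Fintype F] [Field K] [Fintype K] (n : ℕ)
    (h : Fintype.card F = Fintype.card K) :
    Nonempty (Matrix.ProjectiveSpecialLinearGroup (Fin n) F ≃* Matrix.ProjectiveSpecialLinearGroup (Fin n) K) :=
  ⟨LieClassical.FieldTransfer.pslCongr (FiniteField.ringEquivOfCardEq h)⟩

/-! ### the families -/

section

variable {c q : ℕ} (hq : 4 ≤ q) (hc : c = 1 ∨ c = 2)

include hq hc

theorem psl_no {F : Type} [Field F] [Fintype F] {n : ℕ} (hn : 3 ≤ n) (hns : n = 3 → Fintype.card F ≠ 2)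
    (h : Eqn c (Nat.card (Matrix.ProjectiveSpecialLinearGroup (Fin n) F)) q) : False := by
  obtain ⟨p, k, hp, hk, hQ⟩ := exists_pow (F := F)
  have hQ2 : 1 < Fintype.card F := Fintype.one_lt_card
  have h1 := S0243.result (F := F) rfl n (by omega)
  have hprod : ∏ i : Fin n, (Fintype.card F ^ n - Fintype.card F ^ (i : ℕ)) =
      Fintype.card F ^ (n * (n - 1) / 2) * ∏ i ∈ range n, (Fintype.card F ^ (i + 1) - 1) := by
    generalize Fintype.card F = Q
    rw [Fin.prod_univ_eq_prod_range (fun i => Q ^ n - Q ^ i) n]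
    have h1 : ∀ i ∈ range n, Q ^ n - Q ^ i = Q ^ i * (Q ^ (n - i) - 1) := by
      intro i hi
      rw [mem_range] at hi
      rw [Nat.mul_sub, mul_one, ← pow_add, Nat.add_sub_cancel' hi.le]
    rw [Finset.prod_congr rfl h1, Finset.prod_mul_distrib, Finset.prod_pow_eq_pow_sum, Finset.sum_range_id]
    congr 1
    rw [← Finset.prod_range_reflect]
    apply Finset.prod_congr rfl
    intro i hi
    rw [mem_range] at hi
    congr 2
    omega
  obtain ⟨m, rfl⟩ := Nat.exists_eq_add_of_le' hn
  rw [hprod, Finset.prod_range_succ', zero_add, pow_one, mul_left_comm, ← mul_assoc (Fintype.card F ^ _),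
    mul_comm _ (Fintype.card F - 1)] at h1
  have h2 := Nat.eq_of_mul_eq_mul_left (show 0 < Fintype.card F - 1 by omega) h1
  have hcop : Nat.Coprime (Nat.gcd (m + 3) (Fintype.card F - 1)) p := by
    have := cop_sub 1 one_ne_zero hp hk hQ
    rw [pow_one] at this
    exact Nat.Coprime.coprime_dvd_left (Nat.gcd_dvd_right _ _) this
  rcases Nat.eq_zero_or_pos m with rfl | hm
  · -- `n = 3`
    have hns' := hns rfl
    rw [show (0 + 3) * (0 + 3 - 1) / 2 = 3 by norm_num, Finset.prod_range_succ, Finset.prod_range_succ,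
      Finset.prod_range_zero, one_mul] at h2
    rcases Nat.lt_or_ge (Fintype.card F) 4 with h4 | h4
    · have h3 : Fintype.card F = 3 := by omega
      rw [h3] at h2
      have hN : Nat.card (Matrix.ProjectiveSpecialLinearGroup (Fin (0 + 3)) F) = 5616 := by
        have e : Nat.gcd (0 + 3) (3 - 1) = 1 := by decide
        rw [e] at h2
        omega
      rw [hN] at h
      exact no_of_gaps (a1 := 17) (a2 := 22) (a4 := 28) hc h (by decide +kernel) (by decide +kernel)
        (by decide +kernel)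
    · refine no_of_bound (k := k * 3) hp (by omega) hc h (by rw [hQ, pow_mul]) hcop h2 ?_
      generalize Fintype.card F = Q at h4
      obtain ⟨x, rfl⟩ := Nat.exists_eq_add_of_le' h4
      have e1 : (x + 4) ^ (0 + 1 + 1) - 1 = x ^ 2 + 8 * x + 15 := by
        have : (x + 4) ^ (0 + 1 + 1) = x ^ 2 + 8 * x + 15 + 1 := by ring
        rw [this]; simp
      have e2 : (x + 4) ^ (1 + 1 + 1) - 1 = x ^ 3 + 12 * x ^ 2 + 48 * x + 63 := by
        have : (x + 4) ^ (1 + 1 + 1) = x ^ 3 + 12 * x ^ 2 + 48 * x + 63 + 1 := by ring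
        rw [this]; simp
      have e4 : (x + 4) ^ 3 - 2 = x ^ 3 + 12 * x ^ 2 + 48 * x + 62 := by
        have : (x + 4) ^ 3 = x ^ 3 + 12 * x ^ 2 + 48 * x + 62 + 2 := by ring
        rw [this]; simp
      rw [e1, e2, e4]
      have e5 : 4 * (x ^ 2 + 8 * x + 15) < x ^ 3 + 12 * x ^ 2 + 48 * x + 62 := by nlinarith [sq_nonneg x]
      calc 4 * ((x ^ 2 + 8 * x + 15) * (x ^ 3 + 12 * x ^ 2 + 48 * x + 63))
          = (x ^ 3 + 12 * x ^ 2 + 48 * x + 63) * (4 * (x ^ 2 + 8 * x + 15)) := by ring
        _ < (x ^ 3 + 12 * x ^ 2 + 48 * x + 63) * (x ^ 3 + 12 * x ^ 2 + 48 * x + 62) :=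
          Nat.mul_lt_mul_of_pos_left e5 (by omega)
  · have h5 : 2 * ((m + 3) * (m + 3 - 1) / 2) = (m + 3) * (m + 2) := by
      rw [show m + 3 - 1 = m + 2 by omega]
      apply Nat.mul_div_cancel'
      have := Nat.even_mul_pred_self (m + 3)
      rw [show m + 3 - 1 = m + 2 by omega] at this
      exact this.two_dvd
    have h6 := sum_two (m + 1)
    refine no_of_pow (s := ∑ i ∈ range (m + 1 + 1), (i + 2)) hp (by omega) hc h hQ (by omega) hcop h2 ?_
      (prod_le_lin _) ?_
    · nlinarith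
    · nlinarith

theorem psu_no {F : Type} [Field F] [Fintype F] {n Q : ℕ} (hF : Fintype.card F = Q ^ 2) (hn : 3 ≤ n)
    (hn2 : ¬ (n = 3 ∧ Q = 2)) (h : Eqn c (Nat.card (PSU n F Q)) q) : False := by
  obtain ⟨p, k0, hp, hk0, hQ0⟩ := exists_pow (F := F)
  obtain ⟨k, hk, hQ⟩ := root_pow hp two_ne_zero hk0 hQ0 hF
  have hQ2 : 2 ≤ Q := by rw [hQ]; exact hp.two_le.trans (Nat.le_self_pow hk p)
  have h1 := S0280.result (F := F) hF n (by omega)
  obtain ⟨m, rfl⟩ := Nat.exists_eq_add_of_le' hn
  rw [Finset.prod_range_succ', if_pos (by decide), zero_add, pow_one, mul_left_comm, ← mul_assoc (Q ^ _),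
    mul_comm _ (Q + 1)] at h1
  have h2 := Nat.eq_of_mul_eq_mul_left (show 0 < Q + 1 by omega) h1
  have hcop : Nat.Coprime (Nat.gcd (m + 3) (Q + 1)) p := by
    have := cop_add 1 one_ne_zero hp hk hQ
    rw [pow_one] at this
    exact Nat.Coprime.coprime_dvd_left (Nat.gcd_dvd_right _ _) this
  rcases Nat.eq_zero_or_pos m with rfl | hm
  · rw [show (0 + 3) * (0 + 3 - 1) / 2 = 3 by norm_num, Finset.prod_range_succ, Finset.prod_range_succ,
      Finset.prod_range_zero, one_mul, if_neg (by decide), if_pos (by decide)] at h2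
    rcases Nat.lt_or_ge Q 4 with h4 | h4
    · have h3 : Q = 3 := by
        have : Q ≠ 2 := fun h => hn2 ⟨rfl, h⟩
        omega
      subst h3
      have hN : Nat.card (PSU (0 + 3) F 3) = 6048 := by
        have e : Nat.gcd (0 + 3) (3 + 1) = 1 := by decide
        rw [e] at h2
        omega
      rw [hN] at h
      exact no_of_gaps (a1 := 18) (a2 := 22) (a4 := 28) hc h (by decide +kernel) (by decide +kernel)
        (by decide +kernel)
    · refine no_of_bound (k := k * 3) hp (by omega) hc h (by rw [hQ, pow_mul]) hcop h2 ?_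
      obtain ⟨x, rfl⟩ := Nat.exists_eq_add_of_le' h4
      have e1 : (x + 4) ^ (0 + 1 + 1) - 1 = x ^ 2 + 8 * x + 15 := by
        have : (x + 4) ^ (0 + 1 + 1) = x ^ 2 + 8 * x + 15 + 1 := by ring
        rw [this]; simp
      have e2 : (x + 4) ^ (1 + 1 + 1) + 1 = x ^ 3 + 12 * x ^ 2 + 48 * x + 65 := by
        ring
      have e3 : (x + 4) ^ 3 - 1 = x ^ 3 + 12 * x ^ 2 + 48 * x + 63 := by
        have : (x + 4) ^ 3 = x ^ 3 + 12 * x ^ 2 + 48 * x + 63 + 1 := by ring
        rw [this]; simp
      have e4 : (x + 4) ^ 3 - 2 = x ^ 3 + 12 * x ^ 2 + 48 * x + 62 := by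
        have : (x + 4) ^ 3 = x ^ 3 + 12 * x ^ 2 + 48 * x + 62 + 2 := by ring
        rw [this]; simp
      rw [e1, e2, e3, e4]
      ring_nf
      nlinarith [sq_nonneg x, Nat.zero_le (x ^ 3), Nat.zero_le (x ^ 4), Nat.zero_le (x ^ 5), Nat.zero_le (x ^ 6)]
  · have h5 : 2 * ((m + 3) * (m + 3 - 1) / 2) = (m + 3) * (m + 2) := by
      rw [show m + 3 - 1 = m + 2 by omega]
      apply Nat.mul_div_cancel'
      have := Nat.even_mul_pred_self (m + 3)
      rw [show m + 3 - 1 = m + 2 by omega] at this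
      exact this.two_dvd
    have h6 := sum_two (m + 1)
    refine no_of_pow (s := ∑ i ∈ range (m + 1 + 1), (i + 2)) hp (by omega) hc h hQ hQ2 hcop h2 ?_
      (prod_le_uni hQ2 _) ?_
    · nlinarith
    · nlinarith

theorem psp_no {F : Type} [Field F] [Fintype F] {m : ℕ} (hm : 2 ≤ m) (hm2 : m = 2 → 3 ≤ Fintype.card F)
    (h : Eqn c (Nat.card (PSp m F)) q) : False := by
  obtain ⟨p, k, hp, hk, hQ⟩ := exists_pow (F := F)
  have hQ2 : 1 < Fintype.card F := Fintype.one_lt_card
  have h1 := S0245.result (F := F) rfl m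
  have h2 := S0246.result (F := F) rfl m (by omega)
  have h3 := Subgroup.card_mul_index (Subgroup.center ↥(Matrix.symplecticGroup (Fin m) F))
  rw [h1, h2] at h3
  have h3' : Nat.gcd 2 (Fintype.card F - 1) * Nat.card (PSp m F) =
      Fintype.card F ^ m ^ 2 * ∏ i ∈ range m, (Fintype.card F ^ (2 * (i + 1)) - 1) := h3
  have hcop : Nat.Coprime (Nat.gcd 2 (Fintype.card F - 1)) p := by
    have := cop_sub 1 one_ne_zero hp hk hQ
    rw [pow_one] at this
    exact Nat.Coprime.coprime_dvd_left (Nat.gcd_dvd_right _ _) this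
  rcases Nat.lt_or_ge m 3 with hlt | hge
  · obtain rfl : m = 2 := by omega
    have hQ3 := hm2 rfl
    refine no_of_sq (k := k * 2 ^ 2) (X := Fintype.card F ^ 2 ^ 2) hp (by omega) hc h (by rw [hQ, pow_mul]) hcop
      h3' ?_ ?_
    · calc 6 ≤ 3 ^ 2 ^ 2 := by norm_num
        _ ≤ _ := Nat.pow_le_pow_left hQ3 _
    · have h4 := prod_le_sq (Q := Fintype.card F) 2
      generalize Fintype.card F = Q at hQ3 h4 ⊢
      calc 8 * ∏ i ∈ range 2, (Q ^ (2 * (i + 1)) - 1) ≤ Q ^ 2 * Q ^ (2 * (2 + 1)) :=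
            Nat.mul_le_mul (by nlinarith) h4
        _ = (Q ^ 2 ^ 2) ^ 2 := by rw [← pow_add, ← pow_mul]; norm_num
  · refine no_of_pow (s := m * (m + 1)) hp (by omega) hc h hQ (by omega) hcop h3' ?_ (prod_le_sq _) ?_
    · nlinarith
    · nlinarith

theorem oodd_no {F : Type} [Field F] [Fintype F] {m : ℕ} (hm : 3 ≤ m) (ho : Odd (Fintype.card F))
    (h : Eqn c (Nat.card (POmega F (quadFormOdd m F))) q) : False := by
  obtain ⟨p, k, hp, hk, hQ⟩ := exists_pow (F := F)
  have hQ2 : 1 < Fintype.card F := Fintype.one_lt_card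
  have h1 := S0292.result (F := F) rfl ho m hm
  have hcop : Nat.Coprime 2 p := by
    rw [Nat.coprime_primes Nat.prime_two hp]
    rintro rfl
    rw [hQ] at ho
    exact (Nat.not_even_iff_odd.2 ho) ((Nat.even_pow).2 ⟨even_two, hk⟩)
  refine no_of_pow (s := m * (m + 1)) hp (by omega) hc h hQ (by omega) hcop h1 ?_ (prod_le_sq _) ?_
  · nlinarith
  · nlinarith

theorem oplus_no {F : Type} [Field F] [Fintype F] {m : ℕ} (hm : 4 ≤ m)
    (h : Eqn c (Nat.card (POmega F (quadFormPlus m F))) q) : False := by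
  obtain ⟨p, k, hp, hk, hQ⟩ := exists_pow (F := F)
  have hQ2 : 1 < Fintype.card F := Fintype.one_lt_card
  have h1 := S0293.result (F := F) rfl m hm
  rw [mul_assoc] at h1
  refine no_of_pow (s := m + (m - 1) * (m - 1 + 1)) hp (by omega) hc h hQ (by omega) ?_ h1 ?_ ?_ ?_
  · exact Nat.Coprime.coprime_dvd_left (Nat.gcd_dvd_right _ _) (cop_sub m (by omega) hp hk hQ)
  · calc 3 ≤ m * 1 := by omega
      _ ≤ m * (m - 1) := Nat.mul_le_mul_left _ (by omega)
  · rw [pow_add]
    exact Nat.mul_le_mul (Nat.sub_le _ _) (prod_le_sq _)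
  · obtain ⟨j, rfl⟩ := Nat.exists_eq_add_of_le' hm
    rw [show j + 4 - 1 = j + 3 by omega]
    nlinarith

theorem ominus_no {F : Type} [Field F] [Fintype F] {m : ℕ} (hm : 4 ≤ m) {a b : F}
    (hab : ∀ z₁ z₂ : F, z₁ ^ 2 + a * z₁ * z₂ + b * z₂ ^ 2 = 0 → z₁ = 0 ∧ z₂ = 0)
    (h : Eqn c (Nat.card (POmega F (quadFormMinus (m - 1) F a b))) q) : False := by
  obtain ⟨p, k, hp, hk, hQ⟩ := exists_pow (F := F)
  have hQ2 : 1 < Fintype.card F := Fintype.one_lt_card
  have h1 := S0294.result (F := F) rfl m hm a b hab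
  rw [mul_assoc] at h1
  refine no_of_pow (s := m + 1 + (m - 1) * (m - 1 + 1)) hp (by omega) hc h hQ (by omega) ?_ h1 ?_ ?_ ?_
  · exact Nat.Coprime.coprime_dvd_left (Nat.gcd_dvd_right _ _) (cop_add m (by omega) hp hk hQ)
  · calc 3 ≤ m * 1 := by omega
      _ ≤ m * (m - 1) := Nat.mul_le_mul_left _ (by omega)
  · rw [pow_add _ (m + 1)]
    refine Nat.mul_le_mul ?_ (prod_le_sq _)
    have : 1 ≤ Fintype.card F ^ m := Nat.one_le_pow _ _ (by omega)
    rw [pow_succ]
    nlinarith
  · obtain ⟨j, rfl⟩ := Nat.exists_eq_add_of_le' hm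
    rw [show j + 4 - 1 = j + 3 by omega]
    nlinarith

/-- groups with an order formula in one parameter -/
theorem one_no {N Q p k e s r D : ℕ} (hp : p.Prime) (hQ : Q = p ^ k) (hQ2 : 2 ≤ Q) (h : Eqn c N q)
    (hD : Nat.Coprime D p) (hN : D * N = Q ^ e * r) (he : 3 ≤ e) (hr : r ≤ Q ^ s) (hs : s + 3 ≤ 2 * e) : False :=
  no_of_pow hp (by omega) hc h hQ hQ2 hD hN he hr hs

end

/-- `J₁` : `175560 = 55 · 56 · 57`, and `56` is not a prime power -/
theorem j1_no {c q : ℕ} (hc : c = 1 ∨ c = 2) (hqp : IsPrimePow q) (h : Eqn c 175560 q) : False := by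
  unfold Eqn at h
  have h56 : ¬ IsPrimePow 56 := by
    intro h
    obtain ⟨p, k, hp, hk, h⟩ := (isPrimePow_nat_iff _).1 h
    have h2 : 2 ∣ p ^ k := by rw [h]; norm_num
    have h7 : 7 ∣ p ^ k := by rw [h]; norm_num
    have e2 := (Nat.prime_dvd_prime_iff_eq Nat.prime_two hp).1 (Nat.prime_two.dvd_of_dvd_pow h2)
    have e7 := (Nat.prime_dvd_prime_iff_eq (by norm_num : Nat.Prime 7) hp).1
      ((by norm_num : Nat.Prime 7).dvd_of_dvd_pow h7)
    omega
  have h1 : 175560 = q * ((q - 1) * (q + 1)) → False := by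
    intro h
    rcases Nat.lt_trichotomy q 56 with hlt | heq | hlt
    · have := f_mono (show q ≤ 55 by omega)
      omega
    · exact h56 (heq ▸ hqp)
    · have := f_mono (show 57 ≤ q by omega)
      omega
  rcases hc with rfl | rfl <;> rcases gcd_two (q - 1) with hg | hg <;> rw [hg] at h
  · exact h1 (by rw [← h])
  · exact no_of_gap (K := 351120) (a := 70) (by decide +kernel) (by rw [← h])
  · exact no_of_gap (K := 351120) (a := 70) (by decide +kernel) (by rw [← h])
  · exact no_of_gap (K := 702240) (a := 88) (by decide +kernel) (by rw [← h])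

/-! ### the theorem -/

/-- **Known simple groups of order `|PSL(2,q)|` or `|PSL(2,q)| / 2`.** -/
theorem of_known (T : OrderTable.{u}) {S : Type u} [Group S] (hS : IsKnownSimple' S)
    (hna : ¬ ∀ a b : S, a * b = b * a) {F : Type v} [Field F] [Fintype F] (hF : 4 ≤ Fintype.card F) {c : ℕ}
    (hc : c = 1 ∨ c = 2)
    (hcard : c * Nat.card S = Nat.card (Matrix.ProjectiveSpecialLinearGroup (Fin 2) F)) :
    c = 1 ∧ Nonempty (S ≃* Matrix.ProjectiveSpecialLinearGroup (Fin 2) F) := by
  have hE : Eqn c (Nat.card S) (Fintype.card F) := by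
    have h := eqn_psl (F := F)
    unfold Eqn at h ⊢
    rw [← h, ← hcard]
    ring
  have hqp : IsPrimePow (Fintype.card F) := Fintype.isPrimePow_card_of_field
  have spor : ∀ (N a1 a2 a4 : ℕ), Nat.card S = N → gap N a1 = true → gap (2 * N) a2 = true →
      gap (4 * N) a4 = true → c = 1 ∧ Nonempty (S ≃* Matrix.ProjectiveSpecialLinearGroup (Fin 2) F) := by
    intro N a1 a2 a4 hN h1 h2 h4
    rw [hN] at hE
    exact (no_of_gaps hc hE h1 h2 h4).elim
  rcases hS with h | h | h | h | h | h | h | h | h | h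
  · exfalso
    have : Fact (Nat.card S).Prime := ⟨h⟩
    have : IsCyclic S := isCyclic_of_prime_card (p := Nat.card S) rfl
    exact hna fun a b => (IsCyclic.isMulCommutative (α := S)).is_comm.comm a b
  · obtain ⟨n, hn, ⟨e⟩⟩ := h
    obtain ⟨h1, h2⟩ := alt (by omega) hqp hc hE hn (alt_card hn e)
    refine ⟨h1, ?_⟩
    rcases h2 with ⟨rfl, h2⟩ | ⟨rfl, h2⟩ | ⟨rfl, h2⟩
    · obtain ⟨f⟩ := S0252.result h2
      exact ⟨e.trans f.symm⟩
    · obtain ⟨f⟩ := S0253.result h2
      exact ⟨e.trans f.symm⟩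
    · obtain ⟨f⟩ := S0254.result h2
      exact ⟨e.trans f.symm⟩
  · obtain ⟨K, _, _, n, hn, hn2, ⟨e⟩⟩ := h
    rw [Nat.card_congr e.toEquiv] at hE
    rcases Nat.lt_or_ge n 3 with h3 | h3
    · obtain rfl : n = 2 := by omega
      have hK := hn2 rfl
      obtain ⟨h1, h2⟩ := ltwo hF hqp hK Fintype.isPrimePow_card_of_field hc hE (eqn_psl (F := K))
      refine ⟨h1, ?_⟩
      rcases h2 with h2 | ⟨h2, h2'⟩ | ⟨h2, h2'⟩
      · obtain ⟨f⟩ := psl_congr (F := K) (K := F) 2 h2
        exact ⟨e.trans f⟩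
      · obtain ⟨f⟩ := S0252.result h2
        obtain ⟨f'⟩ := S0253.result h2'
        exact ⟨e.trans (f.trans f'.symm)⟩
      · obtain ⟨f⟩ := S0253.result h2
        obtain ⟨f'⟩ := S0252.result h2'
        exact ⟨e.trans (f.trans f'.symm)⟩
    · by_cases h32 : n = 3 ∧ Fintype.card K = 2
      · obtain ⟨rfl, hK⟩ := h32
        -- order 168
        have hcard3 : Nat.card (Matrix.ProjectiveSpecialLinearGroup (Fin 3) K) = 168 := by
          have h1 := S0243.result (F := K) hK 3 (by norm_num)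
          rw [Fin.prod_univ_three] at h1
          have e : Nat.gcd 3 (2 - 1) = 1 := by decide
          rw [e] at h1
          simp at h1
          exact h1
        rw [hcard3] at hE
        have hmain : c = 1 ∧ Fintype.card F = 7 := by
          unfold Eqn at hE
          generalize Fintype.card F = q at hE hF
          rcases hc with rfl | rfl <;> rcases gcd_two (q - 1) with hg | hg
          all_goals
            rcases Nat.lt_or_ge q 10 with h6 | h6
            · interval_cases q <;> simp at hE <;> simp_all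
            · have := f_mono h6
              rw [hg] at hE
              omega
        obtain ⟨f⟩ := S0255.result (F := F) (K := K) hmain.2 hK
        exact ⟨hmain.1, ⟨e.trans f.symm⟩⟩
      · exact (psl_no hF hc h3 (fun h4 h5 => h32 ⟨h4, h5⟩) hE).elim
  · obtain ⟨K, _, _, n, hn, hn2, ⟨e⟩⟩ := h
    rw [Nat.card_congr e.toEquiv] at hE
    exact (psp_no hF hc hn hn2 hE).elim
  · obtain ⟨K, _, _, n, Q, hK, hn, hn2, ⟨e⟩⟩ := h
    rw [Nat.card_congr e.toEquiv] at hE
    exact (psu_no hF hc hK hn hn2 hE).elim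
  · obtain ⟨K, _, _, n, hn, ho, ⟨e⟩⟩ := h
    rw [Nat.card_congr e.toEquiv] at hE
    exact (oodd_no hF hc hn ho hE).elim
  · obtain ⟨K, _, _, n, hn, ⟨e⟩⟩ := h
    rw [Nat.card_congr e.toEquiv] at hE
    exact (oplus_no hF hc hn hE).elim
  · obtain ⟨K, _, _, n, a, b, hn, hab, ⟨e⟩⟩ := h
    rw [Nat.card_congr e.toEquiv] at hE
    exact (ominus_no hF hc hn hab hE).elim
  · rcases h with h | h | h | h | h | h | h | h | h | h | h
    · obtain ⟨K, _, _, hq, ⟨e⟩⟩ := h
      obtain ⟨p, k, hp, hk, hQ⟩ := exists_pow (F := K)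
      rw [Nat.card_congr e.toEquiv] at hE
      refine (one_no (e := 6) (s := 8) (D := 1) hF hc hp hQ (by omega) hE (Nat.coprime_one_left _)
        (by rw [T.g2 K, one_mul, mul_assoc]) (by norm_num) ?_ (by norm_num)).elim
      calc _ ≤ Fintype.card K ^ 2 * Fintype.card K ^ 6 := by gcongr <;> exact Nat.sub_le _ _
        _ = _ := by rw [← pow_add]
    · obtain ⟨K, _, _, ⟨e⟩⟩ := h
      obtain ⟨p, k, hp, hk, hQ⟩ := exists_pow (F := K)
      have hQ2 : 1 < Fintype.card K := Fintype.one_lt_card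
      rw [Nat.card_congr e.toEquiv] at hE
      refine (one_no (e := 24) (s := 28) (D := 1) hF hc hp hQ hQ2 hE (Nat.coprime_one_left _)
        (by rw [T.f4 K _ rfl, one_mul, mul_assoc, mul_assoc, mul_assoc]) (by norm_num) ?_ (by norm_num)).elim
      calc _ ≤ Fintype.card K ^ 2 * (Fintype.card K ^ 6 * (Fintype.card K ^ 8 * Fintype.card K ^ 12)) := by
            gcongr <;> exact Nat.sub_le _ _
        _ = _ := by ring
    · obtain ⟨K, _, _, ⟨e⟩⟩ := h
      obtain ⟨p, k, hp, hk, hQ⟩ := exists_pow (F := K)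
      have hQ2 : 1 < Fintype.card K := Fintype.one_lt_card
      rw [Nat.card_congr e.toEquiv] at hE
      refine (one_no (e := 36) (s := 42) (D := Nat.gcd 3 (Fintype.card K - 1)) hF hc hp hQ hQ2 hE ?_
        (by rw [T.e6 K _ rfl, mul_assoc, mul_assoc, mul_assoc, mul_assoc, mul_assoc]) (by norm_num) ?_
        (by norm_num)).elim
      · have := cop_sub 1 one_ne_zero hp hk hQ
        rw [pow_one] at this
        exact Nat.Coprime.coprime_dvd_left (Nat.gcd_dvd_right _ _) this
      · generalize Fintype.card K = Q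
        calc _ ≤ Q ^ 2 * (Q ^ 5 * (Q ^ 6 * (Q ^ 8 * (Q ^ 9 * Q ^ 12)))) := by
              gcongr <;> exact Nat.sub_le _ _
          _ = _ := by ring
    · obtain ⟨K, _, _, ⟨e⟩⟩ := h
      obtain ⟨p, k, hp, hk, hQ⟩ := exists_pow (F := K)
      have hQ2 : 1 < Fintype.card K := Fintype.one_lt_card
      rw [Nat.card_congr e.toEquiv] at hE
      refine (one_no (e := 63) (s := 70) (D := Nat.gcd 2 (Fintype.card K - 1)) hF hc hp hQ hQ2 hE ?_
        (by rw [T.e7 K _ rfl, mul_assoc, mul_assoc, mul_assoc, mul_assoc, mul_assoc, mul_assoc]) (by norm_num) ?_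
        (by norm_num)).elim
      · have := cop_sub 1 one_ne_zero hp hk hQ
        rw [pow_one] at this
        exact Nat.Coprime.coprime_dvd_left (Nat.gcd_dvd_right _ _) this
      · generalize Fintype.card K = Q
        calc _ ≤ Q ^ 2 * (Q ^ 6 * (Q ^ 8 * (Q ^ 10 * (Q ^ 12 * (Q ^ 14 * Q ^ 18))))) := by
              gcongr <;> exact Nat.sub_le _ _
          _ = _ := by ring
    · obtain ⟨K, _, _, ⟨e⟩⟩ := h
      obtain ⟨p, k, hp, hk, hQ⟩ := exists_pow (F := K)
      have hQ2 : 1 < Fintype.card K := Fintype.one_lt_card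
      rw [Nat.card_congr e.toEquiv] at hE
      refine (one_no (e := 120) (s := 128) (D := 1) hF hc hp hQ hQ2 hE (Nat.coprime_one_left _)
        (by rw [T.e8 K _ rfl, one_mul, mul_assoc, mul_assoc, mul_assoc, mul_assoc, mul_assoc, mul_assoc, mul_assoc])
        (by norm_num) ?_ (by norm_num)).elim
      generalize Fintype.card K = Q
      calc _ ≤ Q ^ 2 * (Q ^ 8 * (Q ^ 12 * (Q ^ 14 * (Q ^ 18 * (Q ^ 20 * (Q ^ 24 * Q ^ 30)))))) := by
            gcongr <;> exact Nat.sub_le _ _
        _ = _ := by ring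
    · obtain ⟨K, _, _, Q, hqq, hK, ⟨e⟩⟩ := h
      obtain ⟨p, k0, hp, hk0, hQ0⟩ := exists_pow (F := K)
      obtain ⟨k, hk, hQ⟩ := root_pow hp two_ne_zero hk0 hQ0 hK
      have hQ2 : 2 ≤ Q := hqq.two_le
      rw [Nat.card_congr e.toEquiv] at hE
      refine (one_no (e := 36) (s := 44) (D := Nat.gcd 3 (Q + 1)) hF hc hp hQ hQ2 hE ?_
        (by rw [T.te6 K Q hqq hK, mul_assoc, mul_assoc, mul_assoc, mul_assoc, mul_assoc]) (by norm_num) ?_
        (by norm_num)).elim
      · have := cop_add 1 one_ne_zero hp hk hQ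
        rw [pow_one] at this
        exact Nat.Coprime.coprime_dvd_left (Nat.gcd_dvd_right _ _) this
      · have h5 : Q ^ 5 + 1 ≤ Q ^ 6 := by
          have : 1 ≤ Q ^ 5 := Nat.one_le_pow _ _ (by omega)
          rw [pow_succ Q 5]; nlinarith
        have h9 : Q ^ 9 + 1 ≤ Q ^ 10 := by
          have : 1 ≤ Q ^ 9 := Nat.one_le_pow _ _ (by omega)
          rw [pow_succ Q 9]; nlinarith
        calc _ ≤ Q ^ 2 * (Q ^ 6 * (Q ^ 6 * (Q ^ 8 * (Q ^ 10 * Q ^ 12)))) := by
              gcongr <;> exact Nat.sub_le _ _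
          _ = _ := by ring
    · obtain ⟨K, _, _, Q, hqq, hK, ⟨e⟩⟩ := h
      obtain ⟨p, k0, hp, hk0, hQ0⟩ := exists_pow (F := K)
      obtain ⟨k, hk, hQ⟩ := root_pow hp three_ne_zero hk0 hQ0 hK
      have hQ2 : 2 ≤ Q := hqq.two_le
      rw [Nat.card_congr e.toEquiv] at hE
      refine (one_no (e := 12) (s := 18) (D := 1) hF hc hp hQ hQ2 hE (Nat.coprime_one_left _)
        (by rw [T.td4 K Q hqq hK, one_mul, mul_assoc, mul_assoc]) (by norm_num) ?_
        (by norm_num)).elim
      have h8 : Q ^ 8 + Q ^ 4 + 1 ≤ Q ^ 10 := by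
        have h4 : 1 ≤ Q ^ 4 := Nat.one_le_pow _ _ (by omega)
        have e8 : Q ^ 8 = Q ^ 4 * Q ^ 4 := by ring
        have e10 : Q ^ 10 = Q ^ 4 * Q ^ 4 * (Q * Q) := by ring
        rw [e8, e10]
        have hqq : 4 ≤ Q * Q := Nat.mul_le_mul hQ2 hQ2
        nlinarith [Nat.mul_le_mul h4 h4]
      calc _ ≤ Q ^ 2 * (Q ^ 6 * Q ^ 10) := by
            gcongr <;> exact Nat.sub_le _ _
        _ = _ := by ring
    · obtain ⟨K, _, _, m, hm, hK, ⟨e⟩⟩ := h
      rw [Nat.card_congr e.toEquiv, T.sz K m hm hK] at hE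
      have h8 : 8 ≤ 2 ^ (2 * m + 1) := by
        calc 8 = 2 ^ 3 := by norm_num
          _ ≤ _ := Nat.pow_le_pow_right (by norm_num) (by omega)
      refine (no_of_bound (ℓ := 2) (k := (2 * m + 1) * 2) (D := 1) Nat.prime_two (by omega) hc hE
        (X := (2 ^ (2 * m + 1)) ^ 2) (by rw [pow_mul]) (Nat.coprime_one_left _) (by rw [one_mul, mul_assoc]) ?_).elim
      generalize 2 ^ (2 * m + 1) = Q at h8
      obtain ⟨x, rfl⟩ := Nat.exists_eq_add_of_le' h8
      have e1 : x + 8 - 1 = x + 7 := by omega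
      have e2 : (x + 8) ^ 2 - 1 = (x + 7) * (x + 9) := by
        have : (x + 8) ^ 2 = (x + 7) * (x + 9) + 1 := by ring
        rw [this]; simp
      have e3 : (x + 8) ^ 2 - 2 = x ^ 2 + 16 * x + 62 := by
        have : (x + 8) ^ 2 = x ^ 2 + 16 * x + 62 + 2 := by ring
        rw [this]; simp
      rw [e1, e2, e3]
      calc 4 * ((x + 7) * ((x + 8) ^ 2 + 1)) = (x + 7) * (4 * (x ^ 2 + 16 * x + 65)) := by ring
        _ < (x + 7) * ((x + 9) * (x ^ 2 + 16 * x + 62)) := by
          apply Nat.mul_lt_mul_of_pos_left _ (by omega)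
          nlinarith [Nat.zero_le (x ^ 2), Nat.zero_le (x ^ 3)]
        _ = _ := by ring
    · obtain ⟨K, _, _, m, hm, hK, ⟨e⟩⟩ := h
      rw [Nat.card_congr e.toEquiv, T.ree K m hm hK] at hE
      have h8 : 27 ≤ 3 ^ (2 * m + 1) := by
        calc 27 = 3 ^ 3 := by norm_num
          _ ≤ _ := Nat.pow_le_pow_right (by norm_num) (by omega)
      refine (no_of_sq (ℓ := 3) (k := (2 * m + 1) * 3) (D := 1) Nat.prime_three (by omega) hc hE
        (X := (3 ^ (2 * m + 1)) ^ 3) (by rw [pow_mul]) (Nat.coprime_one_left _) (by rw [one_mul, mul_assoc])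
        ?_ ?_).elim
      · generalize 3 ^ (2 * m + 1) = Q at h8
        calc 6 ≤ 27 ^ 3 := by norm_num
          _ ≤ Q ^ 3 := Nat.pow_le_pow_left h8 3
      · generalize 3 ^ (2 * m + 1) = Q at h8
        have h3 : Q ^ 3 + 1 ≤ Q ^ 4 := by
          have : 1 ≤ Q ^ 3 := Nat.one_le_pow _ _ (by omega)
          rw [pow_succ Q 3]; nlinarith
        calc 8 * ((Q - 1) * (Q ^ 3 + 1)) ≤ Q * (Q * Q ^ 4) := by
              apply Nat.mul_le_mul (by omega)
              exact Nat.mul_le_mul (Nat.sub_le _ _) h3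
          _ = (Q ^ 3) ^ 2 := by ring
    · obtain ⟨K, _, _, m, hm, hK, ⟨e⟩⟩ := h
      rw [Nat.card_congr e.toEquiv, T.tf4 K m hm hK] at hE
      have h8 : 8 ≤ 2 ^ (2 * m + 1) := by
        calc 8 = 2 ^ 3 := by norm_num
          _ ≤ _ := Nat.pow_le_pow_right (by norm_num) (by omega)
      refine (one_no (e := 12) (s := 16) (D := 1) hF hc Nat.prime_two (Q := 2 ^ (2 * m + 1)) rfl (by omega) hE
        (Nat.coprime_one_left _)
        (by rw [one_mul, mul_assoc, mul_assoc, mul_assoc]) (by norm_num) ?_ (by norm_num)).elim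
      generalize 2 ^ (2 * m + 1) = Q at h8
      have h3 : Q ^ 3 + 1 ≤ Q ^ 4 := by
        have : 1 ≤ Q ^ 3 := Nat.one_le_pow _ _ (by omega)
        rw [pow_succ Q 3]; nlinarith
      have h6 : Q ^ 6 + 1 ≤ Q ^ 7 := by
        have : 1 ≤ Q ^ 6 := Nat.one_le_pow _ _ (by omega)
        rw [pow_succ Q 6]; nlinarith
      calc _ ≤ Q * (Q ^ 4 * (Q ^ 4 * Q ^ 7)) := by
            gcongr <;> exact Nat.sub_le _ _
        _ = _ := by ring
    · exact spor 17971200 261 330 415 (T.spor S _ (by decide : (Grp.tits, 17971200) ∈ OrdDiv.spor) h)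
        (by decide +kernel) (by decide +kernel) (by decide +kernel)
  · rcases h with h | h | h | h | h | h | h | h | h | h | h | h | h | h | h | h | h | h | h | h | h | h | h | h | h | h
    · exact spor 7920 19 25 31
        (T.spor S _ (by decide : (Grp.m11, 7920) ∈ OrdDiv.spor) h)
        (by decide +kernel) (by decide +kernel) (by decide +kernel)
    · exact spor 95040 45 57 72
        (T.spor S _ (by decide : (Grp.m12, 95040) ∈ OrdDiv.spor) h)
        (by decide +kernel) (by decide +kernel) (by decide +kernel)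
    · exact spor 443520 76 96 121
        (T.spor S _ (by decide : (Grp.m22, 443520) ∈ OrdDiv.spor) h)
        (by decide +kernel) (by decide +kernel) (by decide +kernel)
    · exact spor 10200960 216 273 344
        (T.spor S _ (by decide : (Grp.m23, 10200960) ∈ OrdDiv.spor) h)
        (by decide +kernel) (by decide +kernel) (by decide +kernel)
    · exact spor 244823040 625 788 993
        (T.spor S _ (by decide : (Grp.m24, 244823040) ∈ OrdDiv.spor) h)
        (by decide +kernel) (by decide +kernel) (by decide +kernel)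
    · have hN : Nat.card S = 175560 := T.spor S _ (by decide : (Grp.j1, 175560) ∈ OrdDiv.spor) h
      rw [hN] at hE
      exact (j1_no hc hqp hE).elim
    · exact spor 604800 84 106 134
        (T.spor S _ (by decide : (Grp.j2, 604800) ∈ OrdDiv.spor) h)
        (by decide +kernel) (by decide +kernel) (by decide +kernel)
    · exact spor 50232960 368 464 585
        (T.spor S _ (by decide : (Grp.j3, 50232960) ∈ OrdDiv.spor) h)
        (by decide +kernel) (by decide +kernel) (by decide +kernel)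
    · exact spor 86775571046077562880 4427234 5577965 7027796
        (T.spor S _ (by decide : (Grp.j4, 86775571046077562880) ∈ OrdDiv.spor) h)
        (by decide +kernel) (by decide +kernel) (by decide +kernel)
    · exact spor 4157776806543360000 1608003 2025957 2552546
        (T.spor S _ (by decide : (Grp.co1, 4157776806543360000) ∈ OrdDiv.spor) h)
        (by decide +kernel) (by decide +kernel) (by decide +kernel)
    · exact spor 42305421312000 34844 43901 55311
        (T.spor S _ (by decide : (Grp.co2, 42305421312000) ∈ OrdDiv.spor) h)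
        (by decide +kernel) (by decide +kernel) (by decide +kernel)
    · exact spor 495766656000 7914 9971 12563
        (T.spor S _ (by decide : (Grp.co3, 495766656000) ∈ OrdDiv.spor) h)
        (by decide +kernel) (by decide +kernel) (by decide +kernel)
    · exact spor 898128000 964 1215 1531
        (T.spor S _ (by decide : (Grp.mcl, 898128000) ∈ OrdDiv.spor) h)
        (by decide +kernel) (by decide +kernel) (by decide +kernel)
    · exact spor 44352000 353 445 561
        (T.spor S _ (by decide : (Grp.hs, 44352000) ∈ OrdDiv.spor) h)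
        (by decide +kernel) (by decide +kernel) (by decide +kernel)
    · exact spor 448345497600 7653 9643 12149
        (T.spor S _ (by decide : (Grp.suz, 448345497600) ∈ OrdDiv.spor) h)
        (by decide +kernel) (by decide +kernel) (by decide +kernel)
    · exact spor 4030387200 1591 2005 2526
        (T.spor S _ (by decide : (Grp.he, 4030387200) ∈ OrdDiv.spor) h)
        (by decide +kernel) (by decide +kernel) (by decide +kernel)
    · exact spor 145926144000 5264 6633 8357
        (T.spor S _ (by decide : (Grp.ru, 145926144000) ∈ OrdDiv.spor) h)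
        (by decide +kernel) (by decide +kernel) (by decide +kernel)
    · exact spor 460815505920 7724 9731 12261
        (T.spor S _ (by decide : (Grp.on, 460815505920) ∈ OrdDiv.spor) h)
        (by decide +kernel) (by decide +kernel) (by decide +kernel)
    · exact spor 51765179004000000 372688 469557 591606
        (T.spor S _ (by decide : (Grp.ly, 51765179004000000) ∈ OrdDiv.spor) h)
        (by decide +kernel) (by decide +kernel) (by decide +kernel)
    · exact spor 64561751654400 40116 50543 63681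
        (T.spor S _ (by decide : (Grp.fi22, 64561751654400) ∈ OrdDiv.spor) h)
        (by decide +kernel) (by decide +kernel) (by decide +kernel)
    · exact spor 4089470473293004800 1599149 2014801 2538491
        (T.spor S _ (by decide : (Grp.fi23, 4089470473293004800) ∈ OrdDiv.spor) h)
        (by decide +kernel) (by decide +kernel) (by decide +kernel)
    · exact spor 1255205709190661721292800 107871065 135909026 171234642
        (T.spor S _ (by decide : (Grp.fi24, 1255205709190661721292800) ∈ OrdDiv.spor) h)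
        (by decide +kernel) (by decide +kernel) (by decide +kernel)
    · exact spor 273030912000000 64873 81736 102981
        (T.spor S _ (by decide : (Grp.hn, 273030912000000) ∈ OrdDiv.spor) h)
        (by decide +kernel) (by decide +kernel) (by decide +kernel)
    · exact spor 90745943887872000 449375 566177 713338
        (T.spor S _ (by decide : (Grp.th, 90745943887872000) ∈ OrdDiv.spor) h)
        (by decide +kernel) (by decide +kernel) (by decide +kernel)
    · exact spor 4154781481226426191177580544000000 160761751456 202547114678 255193373378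
        (T.spor S _ (by decide : (Grp.b, 4154781481226426191177580544000000) ∈ OrdDiv.spor) h)
        (by decide +kernel) (by decide +kernel) (by decide +kernel)
    · exact spor 808017424794512875886459904961710757005754368000000000 931408596845453676 1173501297218634645 1478518986444697764
        (T.spor S _ (by decide : (Grp.m, 808017424794512875886459904961710757005754368000000000) ∈ OrdDiv.spor) h)
        (by decide +kernel) (by decide +kernel) (by decide +kernel)

end Cfsg.Agent.H439.LTwoOrd
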