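import Cfsg.Agent.H439.MaxOrd
import Cfsg.Agent.H439.LTwoOrdMain
import Cfsg.Agent.TwoFusion.SLTwoFacts
import Cfsg.Agent.S0811
import Cfsg.Agent.S0812

/-!
# Groups with the maximal subgroup orders of `PSL(2,q)` (helper439)
-/

set_option autoImplicit false

namespace Cfsg.Agent.H439.LTwoMax

open Subgroup Cfsg MaxOrd

universe u v

/-! ### numbers -/

theorem two_of_even {q K N : ℕ} (hq : 8 ≤ q) (he : q % 2 = 0) (hN : N = q * ((q - 1) * (q + 1)))
    (hKN : K ∣ N) (hK1 : K ≠ 1) (hKN' : K ≠ N) (hK2 : 2 * K ≠ N)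
    (h2 : K ∣ 2 * (q - 1) ∨ q / 2 * (q + 1) ∣ K)
    (h3 : K ∣ 2 * (q + 1) ∨ q / 2 * (q - 1) ∣ K) : K = 2 := by
  have hK0 : 0 < K := Nat.pos_of_dvd_of_pos hKN (by rw [hN]; exact Nat.mul_pos (by omega) (Nat.mul_pos (by omega) (by omega)))
  obtain ⟨a, ha⟩ : ∃ a, q = 2 * a := ⟨q / 2, by omega⟩
  have hqa : q / 2 = a := by omega
  rw [hqa] at h2 h3
  have hcop : Nat.Coprime (q - 1) (q + 1) := by
    have h4 : Nat.gcd (q - 1) (q + 1) ∣ 2 := by
      have := Nat.dvd_sub (Nat.gcd_dvd_right (q - 1) (q + 1)) (Nat.gcd_dvd_left (q - 1) (q + 1))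
      rwa [show q + 1 - (q - 1) = 2 by omega] at this
    rcases (Nat.dvd_prime Nat.prime_two).1 h4 with h5 | h5
    · exact h5
    · have := Nat.gcd_dvd_left (q - 1) (q + 1)
      rw [h5] at this
      omega
  rcases h2 with h2 | h2
  · rcases h3 with h3 | h3
    · have h4 : K ∣ 2 * Nat.gcd (q - 1) (q + 1) := by
        rw [← Nat.gcd_mul_left]
        exact Nat.dvd_gcd h2 h3
      rw [hcop, mul_one] at h4
      exact ((Nat.dvd_prime Nat.prime_two).1 h4).resolve_left hK1
    · exfalso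
      have h4 := Nat.le_of_dvd (by omega) (h3.trans h2)
      have h5 := Nat.le_of_mul_le_mul_right h4 (by omega)
      omega
  · have h3' : ¬ K ∣ 2 * (q + 1) := by
      intro h
      have h4 := Nat.le_of_dvd (by omega) (h2.trans h)
      have h5 := Nat.le_of_mul_le_mul_right h4 (by omega)
      omega
    have h3 := h3.resolve_left h3'
    exfalso
    -- `a (q-1) (q+1) ∣ K`
    obtain ⟨c, hc⟩ := h2
    have h4 : (q - 1) ∣ (q + 1) * c := by
      have h5 : a * (q - 1) ∣ a * ((q + 1) * c) := by rw [← mul_assoc, ← hc]; exact h3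
      exact Nat.dvd_of_mul_dvd_mul_left (by omega) h5
    obtain ⟨e, rfl⟩ := hcop.dvd_of_dvd_mul_left h4
    have h6 : K = e * (a * ((q - 1) * (q + 1))) := by rw [hc]; ring
    have h7 : N = 2 * (a * ((q - 1) * (q + 1))) := by rw [hN, ha]; ring
    have hpos : 0 < a * ((q - 1) * (q + 1)) := Nat.mul_pos (by omega) (Nat.mul_pos (by omega) (by omega))
    rw [h6, h7] at hKN
    have h8 := Nat.dvd_of_mul_dvd_mul_right hpos hKN
    rcases (Nat.dvd_prime Nat.prime_two).1 h8 with rfl | rfl
    · exact hK2 (by rw [h6, h7]; ring)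
    · exact hKN' (by rw [h6, h7])

theorem two_of_odd {q K N : ℕ} (hq : 8 ≤ q) (he : q % 2 = 1) (hN : 2 * N = q * ((q - 1) * (q + 1)))
    (hKN : K ∣ N) (hK1 : K ≠ 1) (hKN' : K ≠ N) (hK2 : 2 * K ≠ N)
    (h2 : K ∣ q - 1 ∨ q * ((q + 1) / 2) ∣ K)
    (h3 : K ∣ q + 1 ∨ q * ((q - 1) / 2) ∣ K) : K = 2 := by
  obtain ⟨a, ha⟩ : ∃ a, q = 2 * a + 1 := ⟨q / 2, by omega⟩
  have e1 : q - 1 = 2 * a := by omega
  have e2 : q + 1 = 2 * (a + 1) := by omega
  have e3 : (q - 1) / 2 = a := by omega
  have e4 : (q + 1) / 2 = a + 1 := by omega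
  rw [e3] at h3
  rw [e4] at h2
  have hN' : N = 2 * (q * (a * (a + 1))) := by
    have : 2 * N = 2 * (2 * (q * (a * (a + 1)))) := by rw [hN, e1, e2]; ring
    exact Nat.eq_of_mul_eq_mul_left (by norm_num) this
  have ha4 : 4 ≤ a := by omega
  have hcop : Nat.Coprime a (a + 1) := by simp
  have hK0 : 0 < K := Nat.pos_of_dvd_of_pos hKN (by
    rw [hN']; exact Nat.mul_pos (by norm_num) (Nat.mul_pos (by omega) (Nat.mul_pos (by omega) (by omega))))
  rcases h2 with h2 | h2
  · rcases h3 with h3 | h3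
    · have h4 : K ∣ 2 := by
        have := Nat.dvd_sub h3 h2
        rwa [show q + 1 - (q - 1) = 2 by omega] at this
      exact ((Nat.dvd_prime Nat.prime_two).1 h4).resolve_left hK1
    · exfalso
      have h4 := Nat.le_of_dvd (by omega) (h3.trans h2)
      rw [e1] at h4
      have h5 := Nat.le_of_mul_le_mul_right h4 (by omega)
      omega
  · have h3' : ¬ K ∣ q + 1 := by
      intro h
      have h4 := Nat.le_of_dvd (by omega) (h2.trans h)
      rw [e2] at h4
      have h5 := Nat.le_of_mul_le_mul_right h4 (by omega)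
      omega
    have h3 := h3.resolve_left h3'
    exfalso
    obtain ⟨c, hc⟩ := h2
    have h4 : a ∣ (a + 1) * c := by
      have h5 : q * a ∣ q * ((a + 1) * c) := by rw [← mul_assoc, ← hc]; exact h3
      exact Nat.dvd_of_mul_dvd_mul_left (by omega) h5
    obtain ⟨e, rfl⟩ := hcop.dvd_of_dvd_mul_left h4
    have h6 : K = e * (q * (a * (a + 1))) := by rw [hc]; ring
    have hpos : 0 < q * (a * (a + 1)) := Nat.mul_pos (by omega) (Nat.mul_pos (by omega) (by omega))
    rw [h6, hN'] at hKN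
    have h8 := Nat.dvd_of_mul_dvd_mul_right hpos hKN
    rcases (Nat.dvd_prime Nat.prime_two).1 h8 with rfl | rfl
    · exact hK2 (by rw [h6, hN']; ring)
    · exact hKN' (by rw [h6, hN'])

/-! ### `PSL(2,q)` -/

section

variable {F : Type v} [Field F] [Fintype F]

local notation "L₂" => Matrix.ProjectiveSpecialLinearGroup (Fin 2) F

theorem no_prime {c r q : ℕ} (hr : r.Prime) (hq : 4 ≤ q) (hc : c ≤ 2) (h : LTwoOrd.Eqn c r q) :
    False := by
  unfold LTwoOrd.Eqn at h
  have hg := LTwoOrd.gcd_two (q - 1)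
  have h1 : r ∣ q * ((q - 1) * (q + 1)) := by
    rw [← h]
    exact ((dvd_refl r).mul_left c).mul_right _
  have h2 : r ≤ q + 1 := by
    rcases (hr.dvd_mul).1 h1 with h2 | h2
    · have := Nat.le_of_dvd (by omega) h2
      omega
    · rcases (hr.dvd_mul).1 h2 with h4 | h4
      · have := Nat.le_of_dvd (by omega) h4
        omega
      · exact Nat.le_of_dvd (by omega) h4
  have h4 : (q * (q - 1)) * (q + 1) ≤ 4 * (q + 1) := by
    calc (q * (q - 1)) * (q + 1) = c * r * Nat.gcd 2 (q - 1) := by rw [h]; ring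
      _ ≤ 2 * (q + 1) * 2 := Nat.mul_le_mul (Nat.mul_le_mul hc h2) (by omega)
      _ = _ := by ring
  have h5 := Nat.le_of_mul_le_mul_right h4 (by omega)
  have h6 : 4 * 3 ≤ q * (q - 1) := Nat.mul_le_mul (by omega) (by omega)
  omega

theorem prime_of_comm {X : Type*} [Group X] [Finite X] [IsSimpleGroup X] (h : ∀ a b : X, a * b = b * a) :
    (Nat.card X).Prime := by
  let _ : CommGroup X := { (inferInstance : Group X) with mul_comm := h }
  exact IsSimpleGroup.prime_card

theorem not_comm (hF : 4 ≤ Fintype.card F) : ¬ ∀ a b : L₂, a * b = b * a := by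
  have hs : IsSimpleGroup L₂ := TwoFusion.SLTwoFacts.isSimpleGroup_psl (by omega)
  intro h
  exact no_prime (prime_of_comm h) hF (by norm_num) (LTwoOrd.eqn_psl (F := F))

theorem not_isPGroup_of_simple {X : Type*} [Group X] [Finite X] [IsSimpleGroup X] (hna : ¬ ∀ a b : X, a * b = b * a)
    (p : ℕ) (hp : p.Prime) : ¬ IsPGroup p X := by
  intro h
  have : Fact p.Prime := ⟨hp⟩
  have h1 := h.center_nontrivial
  rcases (inferInstance : (Subgroup.center X).Normal).eq_bot_or_eq_top with h2 | h2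
  · rw [h2] at h1
    exact absurd h1 (by simp [not_nontrivial])
  · apply hna
    intro a b
    have : a ∈ Subgroup.center X := by rw [h2]; trivial
    exact ((Subgroup.mem_center_iff.1 this) b).symm

/-- the maximal subgroups of order `2 (q-1) / d`, `2 (q+1) / d` -/
theorem coatoms (hq : Fintype.card F ∉ ({2, 3, 4, 5, 7, 9, 11} : Finset ℕ)) :
    (∃ M : Subgroup L₂, IsCoatom M ∧ Nat.card M = 2 * ((Fintype.card F - 1) / Nat.gcd 2 (Fintype.card F - 1))) ∧
    (∃ M : Subgroup L₂, IsCoatom M ∧ Nat.card M = 2 * ((Fintype.card F + 1) / Nat.gcd 2 (Fintype.card F - 1))) := by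
  simp only [Finset.mem_insert, Finset.mem_singleton, not_or] at hq
  refine ⟨?_, ?_⟩
  · obtain ⟨H, hH, ⟨e⟩⟩ := S0812.result (F := F) rfl (by simp; omega)
    exact ⟨H, hH, by rw [Nat.card_congr e.toEquiv, DihedralGroup.nat_card]⟩
  · obtain ⟨H, hH, ⟨e⟩⟩ := S0811.result (F := F) rfl (by simp; omega)
    exact ⟨H, hH, by rw [Nat.card_congr e.toEquiv, DihedralGroup.nat_card]⟩

end

/-! ### the subgroup `Q R` -/

/-- `K` normal of prime index `r` prime to `|K|`, `p ^ k` the order of a Sylow `p`-subgroup of `K`: there is a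
subgroup of order `p ^ k r` -/
theorem exists_sub {G : Type*} [Group G] [Finite G] (K : Subgroup G) [K.Normal] {r p : ℕ} (hr : r.Prime)
    (hi : K.index = r) (hrK : ¬ r ∣ Nat.card K) (hp : p.Prime) :
    ∃ H : Subgroup G, Nat.card H = p ^ (Nat.card K).factorization p * r := by
  have : Fact p.Prime := ⟨hp⟩
  have : Fact r.Prime := ⟨hr⟩
  obtain ⟨P⟩ : Nonempty (Sylow p K) := inferInstance
  have hF := Sylow.normalizer_sup_eq_top P
  set Q : Subgroup G := (P : Subgroup K).map K.subtype with hQ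
  have hcQ : Nat.card Q = p ^ (Nat.card K).factorization p := by
    rw [hQ, Subgroup.card_map_of_injective K.subtype_injective]
    exact P.card_eq_multiplicity
  have hrN : r ∣ Nat.card (normalizer (Q : Set G)) := by
    have h1 : K.relIndex (normalizer (Q : Set G)) = r := by
      rw [← hi, ← Subgroup.relIndex_top_right, ← hF, Subgroup.relIndex_sup_right]
    rw [← h1]
    exact Subgroup.relIndex_dvd_card _ _
  obtain ⟨x, hx⟩ := exists_prime_orderOf_dvd_card' r hrN
  let Q' : Subgroup (normalizer (Q : Set G)) := Q.subgroupOf _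
  let R : Subgroup (normalizer (Q : Set G)) := zpowers x
  have hQ'n : Q'.Normal := inferInstance
  have hcQ' : Nat.card Q' = Nat.card Q :=
    Nat.card_congr (Subgroup.subgroupOfEquivOfLe Subgroup.le_normalizer).toEquiv
  have hcR : Nat.card R = r := by rw [Nat.card_zpowers, hx]
  have hQK : Nat.card Q ∣ Nat.card K := by
    apply Subgroup.card_dvd_of_le
    rw [hQ]
    exact Subgroup.map_subtype_le _
  have hcop : Nat.Coprime (Nat.card Q') (Nat.card R) := by
    rw [hcQ', hcR, Nat.coprime_comm, hr.coprime_iff_not_dvd]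
    exact fun h => hrK (h.trans hQK)
  have hinf : Q' ⊓ R = ⊥ := (Subgroup.disjoint_of_coprime_natCard hcop).eq_bot
  have hrel : Q'.relIndex R = r := by
    rw [← Subgroup.inf_relIndex_right, hinf, Subgroup.relIndex_bot_left, hcR]
  have hcard : Nat.card ↥(R ⊔ Q') = p ^ (Nat.card K).factorization p * r := by
    rw [← Subgroup.relIndex_bot_left, ← Subgroup.relIndex_mul_relIndex ⊥ Q' (R ⊔ Q') bot_le le_sup_right,
      Subgroup.relIndex_sup_right, hrel, Subgroup.relIndex_bot_left, hcQ', hcQ]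
  refine ⟨(R ⊔ Q').map (normalizer (Q : Set G)).subtype, ?_⟩
  rw [Subgroup.card_map_of_injective (Subgroup.subtype_injective _), hcard]

/-! ### the quotient `A₅` -/

theorem index_five : ∃ H : Subgroup (alternatingGroup (Fin 5)), H.index = 5 := by
  refine ⟨MulAction.stabilizer (alternatingGroup (Fin 5)) (0 : Fin 5), ?_⟩
  have h : MulAction.IsPretransitive (alternatingGroup (Fin 5)) (Fin 5) :=
    alternatingGroup.isPretransitive_of_three_le_card (Fin 5) (by simp)
  rw [MulAction.index_stabilizer_of_transitive]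
  simp

end Cfsg.Agent.H439.LTwoMax
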