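import Cfsg.Agent.H439.LTwoMax

/-!
# Groups with the maximal subgroup orders of `PSL(2,q)`: the theorem (helper439)

`main` : a finite group with the same set of orders of maximal subgroups as `PSL(2,q)`, `q ≥ 4`, is isomorphic to
`PSL(2,q)` (the classification is the hypothesis `hS`).
-/

set_option autoImplicit false

namespace Cfsg.Agent.H439.LTwoMax

open Subgroup Cfsg MaxOrd

universe u v

variable {F : Type v} [Field F] [Fintype F]

local notation "L₂" => Matrix.ProjectiveSpecialLinearGroup (Fin 2) F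

/-- a normal subgroup of a group of order `|PSL(2,q)|` with two of its maximal subgroup orders has order `2` -/
theorem card_normal {G : Type u} [Group G] [Finite G] (hq : Fintype.card F ∉ ({2, 3, 4, 5, 7, 9, 11} : Finset ℕ))
    (hc : Nat.card G = Nat.card L₂) (hLG : Sub L₂ G) (hind : ∀ H : Subgroup G, H ≠ ⊤ → Nat.card G ∣ H.index.factorial)
    (K : Subgroup G) [K.Normal] (hK1 : K ≠ ⊥) (hK2 : K ≠ ⊤) : Nat.card K = 2 := by
  obtain ⟨⟨M2, hM2, h2⟩, ⟨M3, hM3, h3⟩⟩ := coatoms hq
  obtain ⟨N2, hN2, h2'⟩ := hLG M2 hM2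
  obtain ⟨N3, hN3, h3'⟩ := hLG M3 hM3
  rw [h2] at h2'
  rw [h3] at h3'
  have hE := LTwoOrd.eqn_psl (F := F)
  have d2 := dichotomy (K := K) hN2
  have d3 := dichotomy (K := K) hN3
  have i2 := Subgroup.card_mul_index N2
  have i3 := Subgroup.card_mul_index N3
  have hKN : Nat.card K ∣ Nat.card G := Subgroup.card_subgroup_dvd_card K
  have hK1' : Nat.card K ≠ 1 := fun h => hK1 (Subgroup.card_eq_one.1 h)
  have hK2' : Nat.card K ≠ Nat.card G := fun h => hK2 (Subgroup.eq_top_of_card_eq K h)
  have hfield : 1 < Fintype.card F := Fintype.one_lt_card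
  have hK3' : 2 * Nat.card K ≠ Nat.card G := by
    intro h
    have h4 := Subgroup.card_mul_index K
    rw [← h, mul_comm 2] at h4
    have h5 : K.index = 2 := Nat.eq_of_mul_eq_mul_left Nat.card_pos h4
    have h6 := hind K hK2
    rw [h5, hc] at h6
    have h7 := Nat.le_of_dvd (by decide) h6
    rw [show Nat.factorial 2 = 2 from rfl] at h7
    unfold LTwoOrd.Eqn at hE
    have hg := LTwoOrd.gcd_two (Fintype.card F - 1)
    simp only [Finset.mem_insert, Finset.mem_singleton, not_or] at hq
    have h8 : Fintype.card F * ((Fintype.card F - 1) * (Fintype.card F + 1)) ≤ 1 * 2 * 2 := by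
      rw [← hE]
      exact Nat.mul_le_mul (Nat.mul_le_mul_left _ h7) (by omega)
    have h9 : 6 * (5 * 7) ≤ Fintype.card F * ((Fintype.card F - 1) * (Fintype.card F + 1)) :=
      Nat.mul_le_mul (by omega) (Nat.mul_le_mul (by omega) (by omega))
    omega
  rw [← h2'] at d2 i2
  rw [← h3'] at d3 i3
  unfold LTwoOrd.Eqn at hE
  rw [← hc, one_mul] at hE
  simp only [Finset.mem_insert, Finset.mem_singleton, not_or] at hq
  have hqp : IsPrimePow (Fintype.card F) := Fintype.isPrimePow_card_of_field
  have hq6 : Fintype.card F ≠ 6 := by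
    intro h
    rw [h] at hqp
    obtain ⟨p, k, hp, hk, h⟩ := (isPrimePow_nat_iff _).1 hqp
    have h2 : 2 ∣ p ^ k := by rw [h]; norm_num
    have h7 : 3 ∣ p ^ k := by rw [h]; norm_num
    have e2 := (Nat.prime_dvd_prime_iff_eq Nat.prime_two hp).1 (Nat.prime_two.dvd_of_dvd_pow h2)
    have e7 := (Nat.prime_dvd_prime_iff_eq Nat.prime_three hp).1 (Nat.prime_three.dvd_of_dvd_pow h7)
    omega
  have hq8 : 8 ≤ Fintype.card F := by omega
  generalize Fintype.card F = q at *
  generalize Nat.card G = N at *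
  generalize Nat.card K = k at *
  rcases Nat.mod_two_eq_zero_or_one q with h0 | h1
  · rw [LTwoOrd.gcd_even (by omega) h0, Nat.div_one] at d2 d3 i2 i3
    rw [LTwoOrd.gcd_even (by omega) h0, mul_one] at hE
    obtain ⟨a, rfl⟩ : ∃ a, q = 2 * a := ⟨q / 2, by omega⟩
    have e2 : N2.index = a * (2 * a + 1) := by
      have : 2 * (2 * a - 1) * N2.index = 2 * (2 * a - 1) * (a * (2 * a + 1)) := by rw [i2, hE]; ring
      exact Nat.eq_of_mul_eq_mul_left (by omega) this
    have e3 : N3.index = a * (2 * a - 1) := by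
      have : 2 * (2 * a + 1) * N3.index = 2 * (2 * a + 1) * (a * (2 * a - 1)) := by rw [i3, hE]; ring
      exact Nat.eq_of_mul_eq_mul_left (by omega) this
    rw [e2] at d2
    rw [e3] at d3
    refine two_of_even (q := 2 * a) (N := N) (by omega) (by omega) hE hKN hK1' hK2' hK3' ?_ ?_
    · rwa [show 2 * a / 2 = a by omega]
    · rwa [show 2 * a / 2 = a by omega]
  · rw [LTwoOrd.gcd_odd h1] at d2 d3 i2 i3 hE
    obtain ⟨a, rfl⟩ : ∃ a, q = 2 * a + 1 := ⟨q / 2, by omega⟩
    have f2 : (2 * a + 1 - 1) / 2 = a := by omega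
    have f3 : (2 * a + 1 + 1) / 2 = a + 1 := by omega
    have f1 : 2 * a + 1 - 1 = 2 * a := by omega
    rw [f2] at d2 i2
    rw [f3] at d3 i3
    rw [f1] at hE
    have e2 : N2.index = (2 * a + 1) * (a + 1) := by
      have : 2 * (2 * a) * N2.index = 2 * (2 * a) * ((2 * a + 1) * (a + 1)) := by
        have : 2 * (2 * a) * N2.index = N * 2 := by rw [← i2]; ring
        rw [this, hE]; ring
      exact Nat.eq_of_mul_eq_mul_left (by omega) this
    have e3 : N3.index = (2 * a + 1) * a := by
      have : 2 * (2 * (a + 1)) * N3.index = 2 * (2 * (a + 1)) * ((2 * a + 1) * a) := by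
        have : 2 * (2 * (a + 1)) * N3.index = N * 2 := by rw [← i3]; ring
        rw [this, hE]; ring
      exact Nat.eq_of_mul_eq_mul_left (by omega) this
    rw [e2] at d2
    rw [e3] at d3
    refine two_of_odd (q := 2 * a + 1) (N := N) (by omega) (by omega) (by rw [f1, ← hE]; ring) hKN hK1' hK2' hK3'
      ?_ ?_
    · rwa [f1, f3]
    · rw [f2]
      rcases d3 with d3 | d3
      · left; rwa [show 2 * a + 1 + 1 = 2 * (a + 1) by ring]
      · exact Or.inr d3

/-! ### the small cases -/

theorem card_of_four {K : Type*} [Field K] [Fintype K] (h : Fintype.card K = 4) :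
    Nat.card (Matrix.ProjectiveSpecialLinearGroup (Fin 2) K) = 60 := by
  have hE := LTwoOrd.eqn_psl (F := K)
  unfold LTwoOrd.Eqn at hE
  rw [h] at hE
  have : Nat.gcd 2 (4 - 1) = 1 := by decide
  rw [this] at hE
  omega

theorem index_five_of_sixty (T : OrdDiv.OrderTable.{u}) {S : Type u} [Group S] (hS : IsKnownSimple' S)
    (hna : ¬ ∀ a b : S, a * b = b * a) (hc : Nat.card S = 60) : ∃ H : Subgroup S, H.index = 5 := by
  let _ : Fintype (GaloisField 2 2) := Fintype.ofFinite _
  have h4 : Fintype.card (GaloisField 2 2) = 4 := by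
    have := GaloisField.card 2 2 (by norm_num)
    rw [Nat.card_eq_fintype_card] at this
    rw [this]; norm_num
  obtain ⟨-, ⟨e⟩⟩ := LTwoOrd.of_known T hS hna (F := GaloisField 2 2) (c := 1) (by rw [h4]) (Or.inl rfl)
    (by rw [hc, card_of_four h4])
  obtain ⟨f⟩ := S0252.result h4
  obtain ⟨H, hH⟩ := index_five
  refine ⟨H.comap (e.trans f).toMonoidHom, ?_⟩
  rw [Subgroup.index_comap_of_surjective H (e.trans f).surjective]
  exact hH

/-- the quotient of a group of order `60`, `168`, `360` or `660` without subgroups of small index -/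
theorem small_quotient (T : OrdDiv.OrderTable.{u})
    (hS : ∀ (X : Type u) [Group X] [Finite X] [IsSimpleGroup X], IsKnownSimple' X) {G : Type u} [Group G] [Finite G]
    {N : ℕ} (hN : N ∈ ({60, 168, 360, 660} : Finset ℕ)) (hc : Nat.card G = N)
    (hind : ∀ H : Subgroup G, H ≠ ⊤ → Nat.card G ∣ H.index.factorial) (K : Subgroup G) [K.Normal]
    (hK : K ≠ ⊥) [IsSimpleGroup (G ⧸ K)] :
    (N = 60 ∧ K.index = 5) ∨ (N = 168 ∧ K.index = 7) ∨ (N = 660 ∧ K.index = 11) := by
  have hKt : K ≠ ⊤ := by
    rintro rfl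
    have h1 : Nontrivial (G ⧸ (⊤ : Subgroup G)) := IsSimpleGroup.toNontrivial
    exact absurd h1 (not_nontrivial_iff_subsingleton.2 (QuotientGroup.subsingleton_quotient_top))
  have hi := hind K hKt
  have hdvd : K.index ∣ Nat.card G := Subgroup.index_dvd_card K
  have hK1 : Nat.card K ≠ 1 := fun h => hK (Subgroup.card_eq_one.1 h)
  have hmul := Subgroup.card_mul_index K
  rw [hc] at hi hdvd hmul
  have hquot : Nat.card (G ⧸ K) = K.index := rfl
  by_cases hcomm : ∀ a b : G ⧸ K, a * b = b * a
  · have hp := prime_of_comm hcomm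
    rw [hquot] at hp
    generalize K.index = r at *
    have hle : r ≤ N := Nat.le_of_dvd (by
      simp only [Finset.mem_insert, Finset.mem_singleton] at hN; omega) hdvd
    simp only [Finset.mem_insert, Finset.mem_singleton] at hN
    have key : ∀ x ∈ [2, 3, 5, 7, 11], r = x → (N = 60 ∧ r = 5) ∨ (N = 168 ∧ r = 7) ∨ (N = 660 ∧ r = 11) := by
      intro x hx hrx
      subst hrx
      simp only [List.mem_cons, List.not_mem_nil, or_false] at hx
      rcases hN with rfl | rfl | rfl | rfl <;> rcases hx with rfl | rfl | rfl | rfl | rfl <;>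
        first
        | (exfalso; revert hi; decide)
        | (exfalso; revert hdvd; decide)
        | simp
    have hpf : r ∈ [2, 3, 5, 7, 11] := by
      have h1 : r ∈ Nat.primeFactors N := Nat.mem_primeFactors.2 ⟨hp, hdvd, by omega⟩
      rcases hN with rfl | rfl | rfl | rfl
      · rw [show Nat.primeFactors 60 = {2, 3, 5} by decide +kernel] at h1
        simp at h1 ⊢; omega
      · rw [show Nat.primeFactors 168 = {2, 3, 7} by decide +kernel] at h1
        simp at h1 ⊢; omega
      · rw [show Nat.primeFactors 360 = {2, 3, 5} by decide +kernel] at h1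
        simp at h1 ⊢; omega
      · rw [show Nat.primeFactors 660 = {2, 3, 5, 11} by decide +kernel] at h1
        simp at h1 ⊢; omega
    exact key r hpf rfl
  · exfalso
    have h60 : Nat.card (G ⧸ K) = 60 ∨ Nat.card (G ⧸ K) = N := by
      simp only [Finset.mem_insert, Finset.mem_singleton] at hN
      rcases hN with rfl | rfl | rfl | rfl
      · obtain ⟨g, hg, -, hr⟩ := OrdDiv.exists_good T (hS (G ⧸ K)) hcomm (l := [(2, 2), (3, 1), (5, 1)])
          (N := 60) (by decide +kernel) hdvd
        have : ∀ g ∈ OrdDiv.cands [(2, 2), (3, 1), (5, 1)] 60, OrdDiv.ordN g = 60 ∨ OrdDiv.ordN g = 60 := by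
          decide +kernel
        rw [hr]; exact this g hg
      · obtain ⟨g, hg, -, hr⟩ := OrdDiv.exists_good T (hS (G ⧸ K)) hcomm (l := [(2, 3), (3, 1), (7, 1)])
          (N := 168) (by decide +kernel) hdvd
        have : ∀ g ∈ OrdDiv.cands [(2, 3), (3, 1), (7, 1)] 168, OrdDiv.ordN g = 60 ∨ OrdDiv.ordN g = 168 := by
          decide +kernel
        rw [hr]; exact this g hg
      · obtain ⟨g, hg, -, hr⟩ := OrdDiv.exists_good T (hS (G ⧸ K)) hcomm (l := [(2, 3), (3, 2), (5, 1)])
          (N := 360) (by decide +kernel) hdvd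
        have : ∀ g ∈ OrdDiv.cands [(2, 3), (3, 2), (5, 1)] 360, OrdDiv.ordN g = 60 ∨ OrdDiv.ordN g = 360 := by
          decide +kernel
        rw [hr]; exact this g hg
      · obtain ⟨g, hg, -, hr⟩ := OrdDiv.exists_good T (hS (G ⧸ K)) hcomm (l := [(2, 2), (3, 1), (5, 1), (11, 1)])
          (N := 660) (by decide +kernel) hdvd
        have : ∀ g ∈ OrdDiv.cands [(2, 2), (3, 1), (5, 1), (11, 1)] 660,
            OrdDiv.ordN g = 60 ∨ OrdDiv.ordN g = 660 := by
          decide +kernel
        rw [hr]; exact this g hg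
    rcases h60 with h60 | h60
    · -- a subgroup of index 5
      obtain ⟨H, hH⟩ := index_five_of_sixty T (hS (G ⧸ K)) hcomm h60
      have h5 : (H.comap (QuotientGroup.mk' K)).index = 5 := by
        rw [Subgroup.index_comap_of_surjective H (QuotientGroup.mk'_surjective K), hH]
      have h6 := hind (H.comap (QuotientGroup.mk' K)) (by
        intro h
        rw [h, Subgroup.index_top] at h5
        omega)
      rw [h5, hc] at h6
      rw [hquot] at h60
      simp only [Finset.mem_insert, Finset.mem_singleton] at hN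
      rw [h60] at hmul
      rcases hN with rfl | rfl | rfl | rfl
      · omega
      · omega
      · revert h6; decide
      · revert h6; decide
    · rw [hquot] at h60
      rw [h60] at hmul
      have : Nat.card K = 1 := by
        have hN0 : 0 < N := by
          simp only [Finset.mem_insert, Finset.mem_singleton] at hN; omega
        exact Nat.eq_of_mul_eq_mul_right hN0 (by rw [hmul, one_mul])
      exact hK1 this

theorem order_small {N : ℕ} (h : LTwoOrd.Eqn 1 N (Fintype.card F)) :
    (Fintype.card F = 4 → N = 60) ∧ (Fintype.card F = 5 → N = 60) ∧ (Fintype.card F = 7 → N = 168) ∧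
    (Fintype.card F = 9 → N = 360) ∧ (Fintype.card F = 11 → N = 660) := by
  unfold LTwoOrd.Eqn at h
  refine ⟨?_, ?_, ?_, ?_, ?_⟩ <;> intro hq <;> rw [hq] at h
  · rw [show Nat.gcd 2 (4 - 1) = 1 by decide] at h; omega
  · rw [show Nat.gcd 2 (5 - 1) = 2 by decide] at h; omega
  · rw [show Nat.gcd 2 (7 - 1) = 2 by decide] at h; omega
  · rw [show Nat.gcd 2 (9 - 1) = 2 by decide] at h; omega
  · rw [show Nat.gcd 2 (11 - 1) = 2 by decide] at h; omega

/-- `G` is simple: small `q` -/
theorem simple_small (T : OrdDiv.OrderTable.{u})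
    (hS : ∀ (X : Type u) [Group X] [Finite X] [IsSimpleGroup X], IsKnownSimple' X) {G : Type u} [Group G] [Finite G]
    (hq : Fintype.card F ∈ ({4, 5, 7, 9, 11} : Finset ℕ)) (hc : Nat.card G = Nat.card L₂) (hLG : Sub L₂ G)
    (hind : ∀ H : Subgroup G, H ≠ ⊤ → Nat.card G ∣ H.index.factorial)
    (K : Subgroup G) [K.Normal] (hK1 : K ≠ ⊥) (hK2 : K ≠ ⊤) : False := by
  obtain ⟨K', hK'n, hKK', hK't, hs⟩ := exists_simple_quotient K hK2
  have hK'b : K' ≠ ⊥ := fun h => hK1 (le_bot_iff.1 (h ▸ hKK'))
  obtain ⟨o4, o5, o7, o9, o11⟩ := order_small (LTwoOrd.eqn_psl (F := F))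
  rw [← hc] at o4 o5 o7 o9 o11
  simp only [Finset.mem_insert, Finset.mem_singleton] at hq
  have hN : Nat.card G ∈ ({60, 168, 360, 660} : Finset ℕ) := by
    simp only [Finset.mem_insert, Finset.mem_singleton]
    omega
  have hmul := Subgroup.card_mul_index K'
  have key : ∀ r c : ℕ, r.Prime → K'.index = r → Nat.card K' = c → ¬ r ∣ c → ∀ m : ℕ,
      Nat.card G = 2 ^ c.factorization 2 * r * m → m ≠ 1 → ¬ Nat.card G ∣ m.factorial → False := by
    intro r c hr hi hcK hrc m hm hm1 hd
    obtain ⟨H, hH⟩ := exists_sub K' hr hi (by rw [hcK]; exact hrc) Nat.prime_two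
    rw [hcK] at hH
    have h1 := Subgroup.card_mul_index H
    rw [hH, hm] at h1
    have h2 : H.index = m := Nat.eq_of_mul_eq_mul_left (by rw [← hH]; exact Nat.card_pos) h1
    apply hd
    rw [← h2]
    apply hind
    rintro rfl
    rw [Subgroup.index_top] at h2
    exact hm1 h2.symm
  rcases small_quotient T hS hN rfl hind K' hK'b with ⟨hG, hi⟩ | ⟨hG, hi⟩ | ⟨hG, hi⟩
  · rw [hG, hi] at hmul
    refine key 5 12 (by norm_num) hi (by omega) (by norm_num) 3 ?_ (by norm_num) ?_
    · rw [hG, show (12 : ℕ).factorization 2 = 2 by decide +kernel]; norm_num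
    · rw [hG]; decide
  · rw [hG, hi] at hmul
    refine key 7 24 (by norm_num) hi (by omega) (by norm_num) 3 ?_ (by norm_num) ?_
    · rw [hG, show (24 : ℕ).factorization 2 = 3 by decide +kernel]; norm_num
    · rw [hG]; decide
  · -- `q = 11`
    rw [hG, hi] at hmul
    have hF : Fintype.card F = 11 := by omega
    obtain ⟨H, hH, ⟨e⟩⟩ := S0811.result (F := F) rfl (by rw [hF]; decide)
    rw [hF] at e
    have hcH : Nat.card H = 12 := by
      rw [Nat.card_congr e.toEquiv, DihedralGroup.nat_card]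
      decide
    obtain ⟨M, hM, hcM⟩ := hLG H hH
    rw [hcH] at hcM
    have hmulM := Subgroup.card_mul_index M
    rw [← hcM, hG] at hmulM
    rcases dichotomy (K := K') hM with h | h
    · rw [← hcM, show Nat.card K' = 60 by omega] at h
      revert h; decide
    · rw [show M.index = 55 by omega, show Nat.card K' = 60 by omega] at h
      revert h; decide

/-- **A finite group with the maximal subgroup orders of `PSL(2,q)`, `q ≥ 4`, is `PSL(2,q)`.** -/
theorem main (T : OrdDiv.OrderTable.{u})
    (hS : ∀ (X : Type u) [Group X] [Finite X] [IsSimpleGroup X], IsKnownSimple' X) {G : Type u} [Group G] [Finite G]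
    (hF : 4 ≤ Fintype.card F)
    (h : {k : ℕ | ∃ M : Subgroup G, IsCoatom M ∧ k = Nat.card ↥M} =
      {k : ℕ | ∃ M : Subgroup L₂, IsCoatom M ∧ k = Nat.card ↥M}) :
    Nonempty (G ≃* L₂) := by
  have hsL : IsSimpleGroup L₂ := TwoFusion.SLTwoFacts.isSimpleGroup_psl (by omega)
  have hnaL := not_comm hF
  have hGL : Sub G L₂ := by
    intro M hM
    have h1 : Nat.card M ∈ {k : ℕ | ∃ M : Subgroup L₂, IsCoatom M ∧ k = Nat.card ↥M} := by
      rw [← h]; exact ⟨M, hM, rfl⟩
    exact h1
  have hLG : Sub L₂ G := by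
    intro M hM
    have h1 : Nat.card M ∈ {k : ℕ | ∃ M : Subgroup G, IsCoatom M ∧ k = Nat.card ↥M} := by
      rw [h]; exact ⟨M, hM, rfl⟩
    exact h1
  have hpL := not_isPGroup_of_simple hnaL
  have hc : Nat.card G = Nat.card L₂ := card_eq hpL hGL hLG
  have hind : ∀ H : Subgroup G, H ≠ ⊤ → Nat.card G ∣ H.index.factorial := fun H hH =>
    index_factorial hc hGL hH
  have hE := LTwoOrd.eqn_psl (F := F)
  rw [← hc] at hE
  have : Nontrivial G := by
    by_contra hne
    rw [not_nontrivial_iff_subsingleton] at hne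
    exact not_isPGroup hpL hLG 2 Nat.prime_two (IsPGroup.of_card (n := 0) (by simp))
  have hsimple : ∀ K : Subgroup G, K.Normal → K ≠ ⊥ → K ≠ ⊤ → False := by
    intro K hK hK1 hK2
    by_cases hq : Fintype.card F ∈ ({4, 5, 7, 9, 11} : Finset ℕ)
    · exact simple_small T hS hq hc hLG hind K hK1 hK2
    · have hq' : Fintype.card F ∉ ({2, 3, 4, 5, 7, 9, 11} : Finset ℕ) := by
        simp only [Finset.mem_insert, Finset.mem_singleton] at hq ⊢
        omega
      obtain ⟨K', hK'n, hKK', hK't, hs⟩ := exists_simple_quotient K hK2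
      have hK'b : K' ≠ ⊥ := fun h => hK1 (le_bot_iff.1 (h ▸ hKK'))
      have h2 := card_normal hq' hc hLG hind K' hK'b hK't
      have hmul := Subgroup.card_mul_index K'
      have hquot : Nat.card (G ⧸ K') = K'.index := rfl
      rw [h2, ← hquot] at hmul
      have hcomm : ¬ ∀ a b : G ⧸ K', a * b = b * a := by
        intro hcomm
        have hp := prime_of_comm hcomm
        refine no_prime (c := 2) hp hF le_rfl ?_
        unfold LTwoOrd.Eqn at hE ⊢
        rw [hmul, ← hE, one_mul]
      have := (LTwoOrd.of_known T (hS (G ⧸ K')) hcomm hF (c := 2) (Or.inr rfl) (hmul.trans hc)).1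
      omega
  have hsG : IsSimpleGroup G := by
    refine ⟨fun K hK => ?_⟩
    by_contra hcon
    push Not at hcon
    exact hsimple K hK hcon.1 hcon.2
  have hnaG : ¬ ∀ a b : G, a * b = b * a := by
    intro hcomm
    exact no_prime (prime_of_comm hcomm) hF (by norm_num) hE
  exact (LTwoOrd.of_known T (hS G) hnaG hF (c := 1) (Or.inl rfl) (by rw [one_mul]; exact hc)).2

end Cfsg.Agent.H439.LTwoMax
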