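import Cfsg.Agent.H439.LTwoOrdArith

/-!
# Orders equal to `|PSL(2,q)|` or `|PSL(2,q)| / 2`: alternating groups and `PSL(2,Q)` (helper439)
-/

set_option autoImplicit false

namespace Cfsg.Agent.H439.LTwoOrd

open Finset

/-! ### alternating groups -/

theorem le_two_pow (p : ℕ) (hp : 1 ≤ p) : p ≤ 2 ^ (p - 1) := by
  have h : ∀ m : ℕ, m + 1 ≤ 2 ^ m := by
    intro m
    induction m with
    | zero => simp
    | succ m ih => rw [pow_succ]; omega
  obtain ⟨m, rfl⟩ := Nat.exists_eq_add_of_le' hp
  rw [Nat.add_sub_cancel]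
  exact h m

theorem pow_le_of_dvd_factorial {p f n : ℕ} (hp : p.Prime) (h : p ^ f ∣ n.factorial) : p ^ f ≤ 2 ^ n := by
  have : Fact p.Prime := ⟨hp⟩
  have h1 : f ≤ padicValNat p n.factorial := (padicValNat_dvd_iff_le (Nat.factorial_ne_zero n)).1 h
  have h2 : (p - 1) * padicValNat p n.factorial ≤ n := by
    rw [sub_one_mul_padicValNat_factorial]
    exact Nat.sub_le _ _
  calc p ^ f ≤ (2 ^ (p - 1)) ^ f := Nat.pow_le_pow_left (le_two_pow p hp.pos) f
    _ = 2 ^ ((p - 1) * f) := (pow_mul _ _ _).symm
    _ ≤ 2 ^ n := Nat.pow_le_pow_right (by norm_num) ((Nat.mul_le_mul_left _ h1).trans h2)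

theorem factorial_big {n : ℕ} (hn : 20 ≤ n) : 2 * 8 ^ n < n.factorial := by
  induction n, hn using Nat.le_induction with
  | base => decide
  | succ n hn ih =>
    rw [pow_succ, Nat.factorial_succ]
    calc 2 * (8 ^ n * 8) = 8 * (2 * 8 ^ n) := by ring
      _ < 8 * n.factorial := Nat.mul_lt_mul_of_pos_left ih (by norm_num)
      _ ≤ (n + 1) * n.factorial := Nat.mul_le_mul_right _ (by omega)

theorem gcd_even {q : ℕ} (hq : 2 ≤ q) (he : q % 2 = 0) : Nat.gcd 2 (q - 1) = 1 := by
  rcases gcd_two (q - 1) with h | h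
  · exact h
  · have := Nat.gcd_dvd_right 2 (q - 1)
    rw [h] at this
    omega

theorem gcd_odd {q : ℕ} (he : q % 2 = 1) : Nat.gcd 2 (q - 1) = 2 := by
  apply Nat.gcd_eq_left
  omega

theorem dvd_two_mul {c N q p f : ℕ} (hp : p.Prime) (hf : f ≠ 0) (hqf : q = p ^ f) (hq : 2 ≤ q)
    (hc : c = 1 ∨ c = 2) (h : Eqn c N q) : q ∣ 2 * N ∧ (q % 2 = 1 → q ∣ N) := by
  unfold Eqn at h
  have h1 : q ∣ c * N * Nat.gcd 2 (q - 1) := by rw [h]; exact dvd_mul_right _ _
  by_cases h2 : p = 2
  · have he : q % 2 = 0 := by
      rw [hqf, h2]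
      exact Nat.mod_eq_zero_of_dvd (dvd_pow_self 2 hf)
    rw [gcd_even hq he, mul_one] at h1
    refine ⟨?_, by omega⟩
    rcases hc with rfl | rfl
    · rw [one_mul] at h1
      exact h1.mul_left 2
    · exact h1
  · have hodd : ¬ 2 ∣ q := by
      rw [hqf]
      intro h3
      exact h2 ((Nat.prime_dvd_prime_iff_eq Nat.prime_two hp).1 (Nat.prime_two.dvd_of_dvd_pow h3)).symm
    have hcop : Nat.Coprime q 2 := (Nat.prime_two.coprime_iff_not_dvd.2 hodd).symm
    have h3 : q ∣ N := by
      have h4 : q ∣ c * N := by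
        rcases gcd_two (q - 1) with h5 | h5 <;> rw [h5] at h1
        · simpa using h1
        · exact hcop.dvd_of_dvd_mul_right h1
      rcases hc with rfl | rfl
      · simpa using h4
      · exact hcop.dvd_of_dvd_mul_left h4
    exact ⟨h3.mul_left 2, fun _ => h3⟩

/-- alternating groups -/
theorem alt {c N q n : ℕ} (hq : 2 ≤ q) (hqp : IsPrimePow q) (hc : c = 1 ∨ c = 2) (h : Eqn c N q) (hn : 5 ≤ n)
    (hN : n.factorial = 2 * N) : c = 1 ∧ ((n = 5 ∧ q = 4) ∨ (n = 5 ∧ q = 5) ∨ (n = 6 ∧ q = 9)) := by
  obtain ⟨p, f, hp, hf, hqf⟩ := (isPrimePow_nat_iff q).1 hqp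
  have h1 : q ∣ n.factorial := by
    rw [hN]
    exact (dvd_two_mul hp hf.ne' hqf.symm hq hc h).1
  have h2 : q ≤ 2 ^ n := by
    rw [← hqf] at h1 ⊢
    exact pow_le_of_dvd_factorial hp h1
  have h3 : n < 20 := by
    by_contra hlt
    have h4 := factorial_big (not_lt.1 hlt)
    have h5 : N ≤ c * N * Nat.gcd 2 (q - 1) := by
      have hg : 1 ≤ Nat.gcd 2 (q - 1) := by rcases gcd_two (q - 1) with h | h <;> omega
      have hc1 : 1 ≤ c := by omega
      calc N = 1 * N * 1 := by ring
        _ ≤ _ := Nat.mul_le_mul (Nat.mul_le_mul_right _ hc1) hg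
    rw [show _ = _ from h] at h5
    have h6 : q * ((q - 1) * (q + 1)) ≤ q ^ 3 := by
      obtain ⟨a, rfl⟩ := Nat.exists_eq_add_of_le' (show 1 ≤ q by omega)
      rw [Nat.add_sub_cancel]
      nlinarith
    have h7 : q ^ 3 ≤ 8 ^ n := by
      calc q ^ 3 ≤ (2 ^ n) ^ 3 := Nat.pow_le_pow_left h2 3
        _ = 8 ^ n := by rw [← pow_mul, mul_comm, pow_mul]; norm_num
    omega
  have hf5 : Nat.factorial 5 = 120 := by decide
  have hf6 : Nat.factorial 6 = 720 := by decide
  have hf7 : Nat.factorial 7 = 5040 := by decide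
  have hf8 : Nat.factorial 8 = 40320 := by decide
  have hf9 : Nat.factorial 9 = 362880 := by decide
  have hf10 : Nat.factorial 10 = 3628800 := by decide
  have hf11 : Nat.factorial 11 = 39916800 := by decide
  have hf12 : Nat.factorial 12 = 479001600 := by decide
  have hf13 : Nat.factorial 13 = 6227020800 := by decide
  have hf14 : Nat.factorial 14 = 87178291200 := by decide
  have hf15 : Nat.factorial 15 = 1307674368000 := by decide
  have hf16 : Nat.factorial 16 = 20922789888000 := by decide
  have hf17 : Nat.factorial 17 = 355687428096000 := by decide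
  have hf18 : Nat.factorial 18 = 6402373705728000 := by decide
  have hf19 : Nat.factorial 19 = 121645100408832000 := by decide
  interval_cases n
  · -- n = 5
    have hN' : N = 60 := by omega
    subst hN'
    unfold Eqn at h
    have hmain : q = 4 ∨ q = 5 := by
      by_contra hcon
      push Not at hcon
      rcases hc with rfl | rfl <;> rcases gcd_two (q - 1) with hg | hg <;> rw [hg] at h
      all_goals
        rcases Nat.lt_or_ge q 4 with h4 | h4
        · interval_cases q <;> omega
        · rcases Nat.lt_or_ge q 7 with h6 | h6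
          · interval_cases q <;> omega
          · have := f_mono h6
            omega
    rcases hmain with rfl | rfl
    · rw [gcd_even (by norm_num) (by norm_num)] at h
      exact ⟨by omega, Or.inl ⟨rfl, rfl⟩⟩
    · rw [gcd_odd (by norm_num)] at h
      exact ⟨by omega, Or.inr (Or.inl ⟨rfl, rfl⟩)⟩
  · -- n = 6
    have hN' : N = 360 := by omega
    subst hN'
    unfold Eqn at h
    have hmain : q = 9 := by
      by_contra hcon
      rcases hc with rfl | rfl <;> rcases gcd_two (q - 1) with hg | hg <;> rw [hg] at h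
      all_goals
        rcases Nat.lt_or_ge q 7 with h4 | h4
        · interval_cases q <;> omega
        · rcases Nat.lt_or_ge q 12 with h6 | h6
          · interval_cases q <;> omega
          · have := f_mono h6
            omega
    subst hmain
    rw [gcd_odd (by norm_num)] at h
    exact ⟨by omega, Or.inr (Or.inr ⟨rfl, rfl⟩)⟩
  · -- n = 7
    obtain rfl : N = 2520 := by omega
    exact (no_of_gaps (a1 := 13) (a2 := 17) (a4 := 21) hc h (by decide +kernel) (by decide +kernel)
      (by decide +kernel)).elim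
  · -- n = 8
    obtain rfl : N = 20160 := by omega
    exact (no_of_gaps (a1 := 27) (a2 := 34) (a4 := 43) hc h (by decide +kernel) (by decide +kernel)
      (by decide +kernel)).elim
  · -- n = 9
    obtain rfl : N = 181440 := by omega
    exact (no_of_gaps (a1 := 56) (a2 := 71) (a4 := 89) hc h (by decide +kernel) (by decide +kernel)
      (by decide +kernel)).elim
  · -- n = 10
    obtain rfl : N = 1814400 := by omega
    exact (no_of_gaps (a1 := 121) (a2 := 153) (a4 := 193) hc h (by decide +kernel) (by decide +kernel)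
      (by decide +kernel)).elim
  · -- n = 11
    obtain rfl : N = 19958400 := by omega
    exact (no_of_gaps (a1 := 271) (a2 := 341) (a4 := 430) hc h (by decide +kernel) (by decide +kernel)
      (by decide +kernel)).elim
  · -- n = 12
    obtain rfl : N = 239500800 := by omega
    exact (no_of_gaps (a1 := 621) (a2 := 782) (a4 := 985) hc h (by decide +kernel) (by decide +kernel)
      (by decide +kernel)).elim
  · -- n = 13
    obtain rfl : N = 3113510400 := by omega
    exact (no_of_gaps (a1 := 1460) (a2 := 1839) (a4 := 2317) hc h (by decide +kernel) (by decide +kernel)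
      (by decide +kernel)).elim
  · -- n = 14
    obtain rfl : N = 43589145600 := by omega
    exact (no_of_gaps (a1 := 3519) (a2 := 4434) (a4 := 5586) hc h (by decide +kernel) (by decide +kernel)
      (by decide +kernel)).elim
  · -- n = 15
    obtain rfl : N = 653837184000 := by omega
    exact (no_of_gaps (a1 := 8679) (a2 := 10935) (a4 := 13777) hc h (by decide +kernel) (by decide +kernel)
      (by decide +kernel)).elim
  · -- n = 16
    obtain rfl : N = 10461394944000 := by omega
    exact (no_of_gaps (a1 := 21870) (a2 := 27555) (a4 := 34717) hc h (by decide +kernel) (by decide +kernel)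
      (by decide +kernel)).elim
  · -- n = 17
    obtain rfl : N = 177843714048000 := by omega
    exact (no_of_gaps (a1 := 56235) (a2 := 70852) (a4 := 89268) hc h (by decide +kernel) (by decide +kernel)
      (by decide +kernel)).elim
  · -- n = 18
    obtain rfl : N = 3201186852864000 := by omega
    exact (no_of_gaps (a1 := 147379) (a2 := 185686) (a4 := 233950) hc h (by decide +kernel) (by decide +kernel)
      (by decide +kernel)).elim
  · -- n = 19
    obtain rfl : N = 60822550204416000 := by omega
    exact (no_of_gaps (a1 := 393267) (a2 := 495486) (a4 := 624273) hc h (by decide +kernel) (by decide +kernel)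
      (by decide +kernel)).elim

/-! ### `PSL(2,Q)` -/

theorem f_inj {a b : ℕ} (ha : 1 ≤ a) (h : a * ((a - 1) * (a + 1)) = b * ((b - 1) * (b + 1))) (hab : a < b) :
    False := by
  obtain ⟨x, rfl⟩ := Nat.exists_eq_add_of_le' ha
  obtain ⟨y, rfl⟩ := Nat.exists_eq_add_of_le' (show 1 ≤ b by omega)
  rw [Nat.add_sub_cancel, Nat.add_sub_cancel] at h
  have hxy : x + 1 ≤ y := by omega
  nlinarith [Nat.mul_le_mul hxy hxy, Nat.mul_le_mul (Nat.mul_le_mul hxy hxy) hxy]

/-- two `PSL₂` -/
theorem ltwo {c N q Q : ℕ} (hq : 4 ≤ q) (hqp : IsPrimePow q) (hQ : 4 ≤ Q) (hQp : IsPrimePow Q)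
    (hc : c = 1 ∨ c = 2) (h : Eqn c N q) (hN : Eqn 1 N Q) :
    c = 1 ∧ (Q = q ∨ (Q = 4 ∧ q = 5) ∨ (Q = 5 ∧ q = 4)) := by
  obtain ⟨p, f, hp, hf, hqf⟩ := (isPrimePow_nat_iff q).1 hqp
  obtain ⟨ℓ, k, hℓ, hk, hQk⟩ := (isPrimePow_nat_iff Q).1 hQp
  have hodd1 : Q % 2 = 1 → Q ∣ N := (dvd_two_mul hℓ hk.ne' hQk.symm (by omega) (Or.inl rfl) hN).2
  have hQN : Q ∣ N := by
    rcases Nat.mod_two_eq_zero_or_one Q with h0 | h1
    · have h2 : Q ∣ 1 * N * Nat.gcd 2 (Q - 1) := by rw [show _ = _ from hN]; exact dvd_mul_right _ _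
      rw [gcd_even (by omega) h0] at h2
      simpa using h2
    · exact hodd1 h1
  have hb1 : Q ≤ q + 1 := by
    rw [← hQk] at hQN ⊢
    exact bound hℓ (by omega) h hQN
  have hb2 : q % 2 = 1 → q ≤ Q + 1 := fun ho => by
    have h2 := (dvd_two_mul hp hf.ne' hqf.symm (by omega) hc h).2 ho
    rw [← hqf] at h2 ⊢
    exact bound hp (by omega) hN h2
  unfold Eqn at h hN
  rcases hc with rfl | rfl
  · refine ⟨rfl, ?_⟩
    have hb3 : q ≤ Q + 1 := by
      rcases Nat.mod_two_eq_zero_or_one q with h0 | h1
      · have h2 : q ∣ 1 * N * Nat.gcd 2 (q - 1) := by rw [h]; exact dvd_mul_right _ _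
        rw [gcd_even (by omega) h0] at h2
        have h3 : q ∣ N := by simpa using h2
        rw [← hqf] at h3 ⊢
        exact bound hp (by omega) hN h3
      · exact hb2 h1
    rcases Nat.lt_trichotomy Q q with hlt | heq | hlt
    · obtain rfl : q = Q + 1 := by omega
      rcases Nat.mod_two_eq_zero_or_one Q with h0 | h1
      · rw [gcd_odd (by omega)] at h
        rw [gcd_even (by omega) h0] at hN
        have e : 2 * (Q * ((Q - 1) * (Q + 1))) = (Q + 1) * ((Q + 1 - 1) * (Q + 1 + 1)) := by
          rw [← h, ← hN]; ring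
        obtain ⟨x, rfl⟩ := Nat.exists_eq_add_of_le' (show 1 ≤ Q by omega)
        rw [Nat.add_sub_cancel, Nat.add_sub_cancel] at e
        have e2 : ((x + 1) * (x + 1 + 1)) * (2 * x) = ((x + 1) * (x + 1 + 1)) * (x + 1 + 1 + 1) := by
          linarith [e]
        have e3 := Nat.eq_of_mul_eq_mul_left (by positivity) e2
        right; left; omega
      · rw [gcd_even (by omega) (by omega)] at h
        rw [gcd_odd (by omega)] at hN
        have e : (Q * ((Q - 1) * (Q + 1))) = 2 * ((Q + 1) * ((Q + 1 - 1) * (Q + 1 + 1))) := by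
          rw [← h, ← hN]; ring
        have := f_mono (Nat.le_succ Q)
        rw [Nat.succ_eq_add_one] at this
        have hpos : 0 < Q * ((Q - 1) * (Q + 1)) := Nat.mul_pos (by omega) (Nat.mul_pos (by omega) (by omega))
        omega
    · left; exact heq
    · obtain rfl : Q = q + 1 := by omega
      rcases Nat.mod_two_eq_zero_or_one q with h0 | h1
      · rw [gcd_odd (by omega)] at hN
        rw [gcd_even (by omega) h0] at h
        have e : 2 * (q * ((q - 1) * (q + 1))) = (q + 1) * ((q + 1 - 1) * (q + 1 + 1)) := by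
          rw [← h, ← hN]; ring
        obtain ⟨x, rfl⟩ := Nat.exists_eq_add_of_le' (show 1 ≤ q by omega)
        rw [Nat.add_sub_cancel, Nat.add_sub_cancel] at e
        have e2 : ((x + 1) * (x + 1 + 1)) * (2 * x) = ((x + 1) * (x + 1 + 1)) * (x + 1 + 1 + 1) := by
          linarith [e]
        have e3 := Nat.eq_of_mul_eq_mul_left (by positivity) e2
        right; right; omega
      · rw [gcd_even (by omega) (by omega)] at hN
        rw [gcd_odd (by omega)] at h
        have e : (q * ((q - 1) * (q + 1))) = 2 * ((q + 1) * ((q + 1 - 1) * (q + 1 + 1))) := by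
          rw [← h, ← hN]; ring
        have := f_mono (Nat.le_succ q)
        rw [Nat.succ_eq_add_one] at this
        have hpos : 0 < q * ((q - 1) * (q + 1)) := Nat.mul_pos (by omega) (Nat.mul_pos (by omega) (by omega))
        omega
  · exfalso
    rcases Nat.mod_two_eq_zero_or_one q with h0 | h1
    · rw [gcd_even (by omega) h0] at h
      rcases Nat.mod_two_eq_zero_or_one Q with h2 | h2
      · rw [gcd_even (by omega) h2] at hN
        have e : 2 * (Q * ((Q - 1) * (Q + 1))) = q * ((q - 1) * (q + 1)) := by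
          rw [← h, ← hN]; ring
        have hpos : 0 < Q * ((Q - 1) * (Q + 1)) := Nat.mul_pos (by omega) (Nat.mul_pos (by omega) (by omega))
        have hlt : Q < q := by
          by_contra hge
          have := f_mono (not_lt.1 hge)
          omega
        -- both powers of two
        have hℓ2 : ℓ = 2 := by
          have : 2 ∣ Q := Nat.dvd_of_mod_eq_zero h2
          rw [← hQk] at this
          exact ((Nat.prime_dvd_prime_iff_eq Nat.prime_two hℓ).1 (Nat.prime_two.dvd_of_dvd_pow this)).symm
        have hp2 : p = 2 := by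
          have : 2 ∣ q := Nat.dvd_of_mod_eq_zero h0
          rw [← hqf] at this
          exact ((Nat.prime_dvd_prime_iff_eq Nat.prime_two hp).1 (Nat.prime_two.dvd_of_dvd_pow this)).symm
        subst hℓ2
        subst hp2
        have hkf : k < f := by
          rw [← hQk, ← hqf] at hlt
          exact (Nat.pow_lt_pow_iff_right (by norm_num)).1 hlt
        have h2Q : 2 * Q ≤ q := by
          rw [← hQk, ← hqf, mul_comm, ← pow_succ]
          exact Nat.pow_le_pow_right (by norm_num) hkf
        have h5 := f_mono h2Q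
        have h6 : 2 * (Q * ((Q - 1) * (Q + 1))) < 2 * Q * ((2 * Q - 1) * (2 * Q + 1)) := by
          rw [mul_assoc 2 Q]
          apply Nat.mul_lt_mul_of_pos_left _ (by norm_num)
          apply Nat.mul_lt_mul_of_pos_left _ (by omega)
          exact Nat.mul_lt_mul_of_lt_of_le (by omega) (by omega) (by omega)
        omega
      · rw [gcd_odd h2] at hN
        have e : (Q * ((Q - 1) * (Q + 1))) = q * ((q - 1) * (q + 1)) := by
          rw [← h, ← hN]; ring
        rcases Nat.lt_trichotomy Q q with hlt | heq | hlt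
        · exact f_inj (by omega) e hlt
        · omega
        · exact f_inj (by omega) e.symm hlt
    · rw [gcd_odd h1] at h
      have hb3 := hb2 h1
      have h5 := f_mono hb3
      rw [Nat.add_sub_cancel] at h5
      have e : 4 * (Q * ((Q - 1) * (Q + 1))) = q * ((q - 1) * (q + 1)) * Nat.gcd 2 (Q - 1) := by
        rw [← h, ← hN]; ring
      obtain ⟨x, rfl⟩ := Nat.exists_eq_add_of_le' (show 1 ≤ Q by omega)
      rw [Nat.add_sub_cancel] at e
      rcases gcd_two (x + 1 - 1) with hg | hg
      · rw [Nat.add_sub_cancel] at hg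
        rw [hg] at e
        have e5 : (x + 1) * (x * (x + 1 + 1)) * 4 ≤ (x + 1 + 1) * ((x + 1) * (x + 1 + 1 + 1)) := by
          linarith
        have e6 : ((x + 1) * (x + 1 + 1)) * (4 * x) ≤ ((x + 1) * (x + 1 + 1)) * (x + 1 + 1 + 1) := by
          linarith
        have e7 := Nat.le_of_mul_le_mul_left e6 (by positivity)
        omega
      · have hodd : (x + 1) % 2 = 1 := by
          rw [Nat.add_sub_cancel] at hg
          have := Nat.gcd_dvd_right 2 x
          rw [hg] at this
          omega
        rw [Nat.add_sub_cancel] at hg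
        rw [hg] at e
        have e5 : (x + 1) * (x * (x + 1 + 1)) * 2 ≤ (x + 1 + 1) * ((x + 1) * (x + 1 + 1 + 1)) := by
          linarith
        have e6 : ((x + 1) * (x + 1 + 1)) * (2 * x) ≤ ((x + 1) * (x + 1 + 1)) * (x + 1 + 1 + 1) := by
          linarith
        have e7 := Nat.le_of_mul_le_mul_left e6 (by positivity)
        omega

end Cfsg.Agent.H439.LTwoOrd
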