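import Mathlib

/-!
# Orders equal to `|PSL(2,q)|` or `|PSL(2,q)| / 2`: arithmetic (helper439)

* `bound` : if `c N d = q (q² - 1)` (`c ≤ 2`, `d = gcd(2, q-1)`), `D N = X r` with `X` a power of the prime `ℓ`, `D` prime
  to `ℓ`, then `X ≤ q + 1`;
* `no_of_bound` : and `4 r < (X - 1) (X - 2)` is impossible.
-/

set_option autoImplicit false

namespace Cfsg.Agent.H439.LTwoOrd

open Finset

/-- the equation `c N gcd(2, q-1) = q (q-1) (q+1)` -/
def Eqn (c N q : ℕ) : Prop := c * N * Nat.gcd 2 (q - 1) = q * ((q - 1) * (q + 1))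

theorem gcd_two (n : ℕ) : Nat.gcd 2 n = 1 ∨ Nat.gcd 2 n = 2 := by
  have h := Nat.gcd_dvd_left 2 n
  exact (Nat.dvd_prime Nat.prime_two).1 h

theorem pow_dvd_of_dvd_mul {ℓ k a b : ℕ} (hℓ : ℓ.Prime) (h : ℓ ^ k ∣ a * b) (ha : ¬ ℓ ∣ a) : ℓ ^ k ∣ b := by
  have h1 : Nat.Coprime (ℓ ^ k) a := Nat.Coprime.pow_left _ ((hℓ.coprime_iff_not_dvd).2 ha)
  exact h1.dvd_of_dvd_mul_left h

/-- prime power divisors of `N` are at most `q + 1` -/
theorem bound {ℓ k c N q : ℕ} (hℓ : ℓ.Prime) (hq : 2 ≤ q) (h : Eqn c N q)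
    (hX : ℓ ^ k ∣ N) : ℓ ^ k ≤ q + 1 := by
  unfold Eqn at h
  have hX1 : ℓ ^ k ∣ q * ((q - 1) * (q + 1)) := by
    rw [← h]
    exact ((hX.mul_left c)).mul_right _
  by_cases hlq : ℓ ∣ q
  · have h1 : ¬ ℓ ∣ (q - 1) * (q + 1) := by
      intro h2
      rcases (hℓ.dvd_mul).1 h2 with h3 | h3
      · have h4 : ℓ ∣ q - (q - 1) := Nat.dvd_sub hlq h3
        rw [Nat.sub_sub_self (by omega)] at h4
        exact hℓ.one_lt.ne' (Nat.dvd_one.1 h4)
      · have h4 : ℓ ∣ (q + 1) - q := Nat.dvd_sub h3 hlq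
        rw [Nat.add_sub_cancel_left] at h4
        exact hℓ.one_lt.ne' (Nat.dvd_one.1 h4)
    rw [mul_comm] at hX1
    exact (Nat.le_of_dvd (by omega) (pow_dvd_of_dvd_mul hℓ hX1 h1)).trans (Nat.le_succ _)
  · have h1 : ℓ ^ k ∣ (q - 1) * (q + 1) := pow_dvd_of_dvd_mul hℓ hX1 hlq
    by_cases h2 : ℓ = 2
    · subst h2
      have hodd : q % 2 = 1 := by omega
      have hg : Nat.gcd 2 (q - 1) = 2 := by
        apply Nat.gcd_eq_left
        omega
      rw [hg] at h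
      rcases Nat.eq_zero_or_pos k with hk | hk
      · subst hk
        simp
      · have h3 : 2 ^ (k + 1) ∣ (q - 1) * (q + 1) := by
          have h4 : 2 ^ (k + 1) ∣ q * ((q - 1) * (q + 1)) := by
            rw [← h, pow_succ]
            exact Nat.mul_dvd_mul (hX.mul_left c) dvd_rfl
          exact pow_dvd_of_dvd_mul Nat.prime_two h4 hlq
        have h5 : q % 4 = 1 ∨ q % 4 = 3 := by omega
        rcases h5 with h5 | h5
        · obtain ⟨a, ha⟩ : ∃ a, q + 1 = 2 * a ∧ a % 2 = 1 := ⟨(q + 1) / 2, by omega⟩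
          rw [ha.1, mul_comm, mul_assoc, pow_succ, mul_comm] at h3
          have h6 : 2 ^ k ∣ a * (q - 1) := Nat.dvd_of_mul_dvd_mul_left (by norm_num) h3
          have h7 : 2 ^ k ∣ q - 1 := pow_dvd_of_dvd_mul Nat.prime_two h6 (by omega)
          have := Nat.le_of_dvd (by omega) h7
          omega
        · obtain ⟨a, ha⟩ : ∃ a, q - 1 = 2 * a ∧ a % 2 = 1 := ⟨(q - 1) / 2, by omega⟩
          rw [ha.1, mul_assoc, pow_succ, mul_comm] at h3
          have h6 : 2 ^ k ∣ a * (q + 1) := Nat.dvd_of_mul_dvd_mul_left (by norm_num) h3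
          have h7 : 2 ^ k ∣ q + 1 := pow_dvd_of_dvd_mul Nat.prime_two h6 (by omega)
          exact Nat.le_of_dvd (by omega) h7
    · by_cases h3 : ℓ ∣ q - 1
      · have h4 : ¬ ℓ ∣ q + 1 := by
          intro h5
          have h6 : ℓ ∣ (q + 1) - (q - 1) := Nat.dvd_sub h5 h3
          rw [show q + 1 - (q - 1) = 2 by omega] at h6
          exact h2 ((Nat.prime_dvd_prime_iff_eq hℓ Nat.prime_two).1 h6)
        rw [mul_comm] at h1
        have := Nat.le_of_dvd (by omega) (pow_dvd_of_dvd_mul hℓ h1 h4)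
        omega
      · exact Nat.le_of_dvd (by omega) (pow_dvd_of_dvd_mul hℓ h1 h3)

/-- the main contradiction -/
theorem no_of_bound {ℓ k c N q X r D : ℕ} (hℓ : ℓ.Prime) (hq : 2 ≤ q) (hc : c = 1 ∨ c = 2)
    (h : Eqn c N q) (hXk : X = ℓ ^ k) (hD : Nat.Coprime D ℓ) (hN : D * N = X * r)
    (hb : 4 * r < (X - 1) * (X - 2)) : False := by
  have hXN : ℓ ^ k ∣ N := by
    have h1 : ℓ ^ k ∣ D * N := by rw [hN, hXk]; exact dvd_mul_right _ _
    exact (Nat.Coprime.pow_left _ hD.symm).dvd_of_dvd_mul_left h1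
  have hXq := bound hℓ hq h hXN
  rw [← hXk] at hXq
  have hX0 : 0 < X := by rw [hXk]; exact pow_pos hℓ.pos _
  have hX3 : 3 ≤ X := by
    by_contra hlt
    have : X = 1 ∨ X = 2 := by omega
    rcases this with h1 | h1 <;> simp [h1] at hb
  have hD1 : 1 ≤ D := by
    rcases Nat.eq_zero_or_pos D with h0 | h0
    · rw [h0, Nat.coprime_zero_left] at hD
      exact absurd hD hℓ.ne_one
    · exact h0
  have h4 : q * ((q - 1) * (q + 1)) ≤ 4 * N := by
    rw [← show _ = _ from h]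
    have hg : Nat.gcd 2 (q - 1) ≤ 2 := Nat.le_of_dvd (by norm_num) (Nat.gcd_dvd_left _ _)
    have hc2 : c ≤ 2 := by omega
    calc c * N * Nat.gcd 2 (q - 1) ≤ 2 * N * 2 := Nat.mul_le_mul (Nat.mul_le_mul_right _ hc2) hg
      _ = 4 * N := by ring
  have h5 : 4 * N ≤ 4 * (X * r) := by
    rw [← hN]
    exact Nat.mul_le_mul_left _ (Nat.le_mul_of_pos_left _ hD1)
  have h6 : 4 * (X * r) < X * ((X - 1) * (X - 2)) := by
    calc 4 * (X * r) = X * (4 * r) := by ring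
      _ < X * ((X - 1) * (X - 2)) := Nat.mul_lt_mul_of_pos_left hb hX0
  have h7 : X * ((X - 1) * (X - 2)) ≤ q * ((q - 1) * (q + 1)) := by
    have e1 : X ≤ q + 1 := hXq
    calc X * ((X - 1) * (X - 2)) ≤ (q + 1) * (q * (q - 1)) :=
          Nat.mul_le_mul e1 (Nat.mul_le_mul (by omega) (by omega))
      _ = q * ((q - 1) * (q + 1)) := by ring
  omega

/-- the convenient form: `8 r ≤ X²`, `6 ≤ X` -/
theorem bound_of_sq {X r : ℕ} (hX : 6 ≤ X) (h : 8 * r ≤ X ^ 2) : 4 * r < (X - 1) * (X - 2) := by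
  obtain ⟨y, rfl⟩ := Nat.exists_eq_add_of_le' hX
  have e1 : y + 6 - 1 = y + 5 := by omega
  have e2 : y + 6 - 2 = y + 4 := by omega
  rw [e1, e2]
  nlinarith

theorem no_of_sq {ℓ k c N q X r D : ℕ} (hℓ : ℓ.Prime) (hq : 2 ≤ q) (hc : c = 1 ∨ c = 2)
    (h : Eqn c N q) (hXk : X = ℓ ^ k) (hD : Nat.Coprime D ℓ) (hN : D * N = X * r)
    (hX : 6 ≤ X) (hb : 8 * r ≤ X ^ 2) : False :=
  no_of_bound hℓ hq hc h hXk hD hN (bound_of_sq hX hb)

/-- `no_of_sq` for powers of `Q = ℓ ^ j` -/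
theorem no_of_pow {ℓ j c N q Q e s r D : ℕ} (hℓ : ℓ.Prime) (hq : 2 ≤ q) (hc : c = 1 ∨ c = 2)
    (h : Eqn c N q) (hQ : Q = ℓ ^ j) (hQ2 : 2 ≤ Q) (hD : Nat.Coprime D ℓ) (hN : D * N = Q ^ e * r)
    (he : 3 ≤ e) (hr : r ≤ Q ^ s) (hs : s + 3 ≤ 2 * e) : False := by
  refine no_of_sq (k := j * e) (X := Q ^ e) hℓ hq hc h (by rw [hQ, pow_mul]) hD hN ?_ ?_
  · calc 6 ≤ 2 ^ 3 := by norm_num
      _ ≤ 2 ^ e := Nat.pow_le_pow_right (by norm_num) he
      _ ≤ Q ^ e := Nat.pow_le_pow_left hQ2 e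
  · calc 8 * r ≤ 2 ^ 3 * Q ^ s := by rw [show 2 ^ 3 = 8 by norm_num]; exact Nat.mul_le_mul_left _ hr
      _ ≤ Q ^ 3 * Q ^ s := Nat.mul_le_mul_right _ (Nat.pow_le_pow_left hQ2 3)
      _ = Q ^ (s + 3) := by rw [← pow_add, add_comm]
      _ ≤ Q ^ (2 * e) := Nat.pow_le_pow_right (by omega) hs
      _ = (Q ^ e) ^ 2 := by rw [← pow_mul, mul_comm]

/-! ### excluded orders -/

/-- `q (q - 1) (q + 1)` is increasing -/
theorem f_mono {a b : ℕ} (h : a ≤ b) : a * ((a - 1) * (a + 1)) ≤ b * ((b - 1) * (b + 1)) :=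
  Nat.mul_le_mul h (Nat.mul_le_mul (by omega) (by omega))

/-- `f a < K < f (a + 1)` : `K` is not a value of `f` -/
def gap (K a : ℕ) : Bool := Nat.blt (a * ((a - 1) * (a + 1))) K && Nat.blt K ((a + 1) * (a * (a + 2)))

theorem no_of_gap {K a q : ℕ} (h : gap K a = true) : K ≠ q * ((q - 1) * (q + 1)) := by
  rw [gap, Bool.and_eq_true, Nat.blt_eq, Nat.blt_eq] at h
  intro he
  rcases Nat.lt_or_ge a q with h1 | h1
  · have h2 := f_mono (a := a + 1) (b := q) (by omega)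
    rw [← he, Nat.add_sub_cancel] at h2
    have h3 := h.2
    rw [show a + 1 + 1 = a + 2 from rfl] at h2
    omega
  · have h2 := f_mono h1
    rw [← he] at h2
    omega

theorem no_of_gaps {N c q a1 a2 a4 : ℕ} (hc : c = 1 ∨ c = 2) (h : Eqn c N q) (h1 : gap N a1 = true)
    (h2 : gap (2 * N) a2 = true) (h4 : gap (4 * N) a4 = true) : False := by
  unfold Eqn at h
  rcases hc with rfl | rfl <;> rcases gcd_two (q - 1) with hg | hg <;> rw [hg] at h
  · exact no_of_gap h1 (by rw [← h]; ring)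
  · exact no_of_gap h2 (by rw [← h]; ring)
  · exact no_of_gap h2 (by rw [← h]; ring)
  · exact no_of_gap h4 (by rw [← h]; ring)

/-! ### products -/

theorem prod_le_lin {Q : ℕ} (n : ℕ) :
    ∏ i ∈ range n, (Q ^ (i + 1 + 1) - 1) ≤ Q ^ (∑ i ∈ range n, (i + 2)) := by
  rw [← Finset.prod_pow_eq_pow_sum]
  exact Finset.prod_le_prod (fun _ _ => Nat.zero_le _) fun i _ => Nat.sub_le _ _

theorem pair_le (A Q : ℕ) (hA : 1 ≤ A) (hQ : 1 ≤ Q) : (A - 1) * (A * Q + 1) ≤ A * (A * Q) := by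
  obtain ⟨a, rfl⟩ := Nat.exists_eq_add_of_le' hA
  obtain ⟨b, rfl⟩ := Nat.exists_eq_add_of_le' hQ
  rw [Nat.add_sub_cancel]
  nlinarith

/-- the unitary product -/
theorem prod_le_uni {Q : ℕ} (hQ : 2 ≤ Q) (n : ℕ) :
    ∏ i ∈ range n, (if Even (i + 1) then Q ^ (i + 1 + 1) + 1 else Q ^ (i + 1 + 1) - 1) ≤
      Q ^ (∑ i ∈ range n, (i + 2)) := by
  have key : ∀ j : ℕ, ∏ i ∈ range (2 * j), (if Even (i + 1) then Q ^ (i + 1 + 1) + 1 else Q ^ (i + 1 + 1) - 1) ≤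
      Q ^ (∑ i ∈ range (2 * j), (i + 2)) := by
    intro j
    induction j with
    | zero => simp
    | succ j ih =>
      rw [show 2 * (j + 1) = 2 * j + 1 + 1 by ring, Finset.prod_range_succ, Finset.prod_range_succ,
        Finset.sum_range_succ, Finset.sum_range_succ, if_neg (by rw [Nat.even_add_one]; simp),
        if_pos (by rw [Nat.even_add_one, Nat.even_add_one]; simp), add_assoc (∑ i ∈ range (2 * j), (i + 2)),
        pow_add Q (∑ i ∈ range (2 * j), (i + 2)), mul_assoc]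
      refine Nat.mul_le_mul ih ?_
      have h1 := pair_le (Q ^ (2 * j + 1 + 1)) Q (Nat.one_le_pow _ _ (by omega)) (by omega)
      calc (Q ^ (2 * j + 1 + 1) - 1) * (Q ^ (2 * j + 1 + 1 + 1) + 1)
          = (Q ^ (2 * j + 1 + 1) - 1) * (Q ^ (2 * j + 1 + 1) * Q + 1) := by rw [pow_succ Q (2 * j + 1 + 1)]
        _ ≤ Q ^ (2 * j + 1 + 1) * (Q ^ (2 * j + 1 + 1) * Q) := h1
        _ = Q ^ (2 * j + 2 + (2 * j + 1 + 2)) := by rw [← pow_succ, ← pow_add]
  rcases Nat.even_or_odd' n with ⟨j, rfl | rfl⟩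
  · exact key j
  · rw [Finset.prod_range_succ, Finset.sum_range_succ, pow_add Q (∑ i ∈ range (2 * j), (i + 2)),
      if_neg (by rw [Nat.even_add_one]; simp)]
    exact Nat.mul_le_mul (key j) (Nat.sub_le _ _)

theorem sum_two (m : ℕ) : 2 * ∑ i ∈ range (m + 1), (i + 2) = (m + 1) * (m + 4) := by
  induction m with
  | zero => simp
  | succ m ih => rw [Finset.sum_range_succ, mul_add, ih]; ring

theorem prod_le_sq {Q : ℕ} (m : ℕ) :
    ∏ i ∈ range m, (Q ^ (2 * (i + 1)) - 1) ≤ Q ^ (m * (m + 1)) := by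
  induction m with
  | zero => simp
  | succ m ih =>
    rw [Finset.prod_range_succ]
    calc (∏ i ∈ range m, (Q ^ (2 * (i + 1)) - 1)) * (Q ^ (2 * (m + 1)) - 1)
        ≤ Q ^ (m * (m + 1)) * Q ^ (2 * (m + 1)) := Nat.mul_le_mul ih (Nat.sub_le _ _)
      _ = Q ^ ((m + 1) * (m + 1 + 1)) := by rw [← pow_add]; congr 1; ring

end Cfsg.Agent.H439.LTwoOrd
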