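import Mathlib
import Cfsg.Agent.Involutions.IndexFive

/-!
# Groups with the same orders of maximal subgroups (helper439)

* `card_dvd` : if `G` has maximal subgroups of two different orders and every order of a maximal subgroup of `G` is the
  order of a maximal subgroup of `L`, then `|G|` divides `|L|`;
* `card_eq` : if `G` and `L` have the same orders of maximal subgroups and `L` is not a `p`-group, then `|G| = |L|`;
* `index_factorial` : if moreover `L` is simple, then `|G|` divides `|G : H|!` for each proper subgroup `H` of `G`;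
* `dichotomy` : a normal subgroup `K` is contained in the maximal subgroup `M`, or `|G : M|` divides `|K|`.
-/

set_option autoImplicit false

namespace Cfsg.Agent.H439.MaxOrd

open Subgroup

/-- every order of a maximal subgroup of `G` is one of `L` -/
def Sub (G L : Type*) [Group G] [Group L] : Prop :=
  ∀ M : Subgroup G, IsCoatom M → ∃ M' : Subgroup L, IsCoatom M' ∧ Nat.card M = Nat.card M'

variable {G L : Type*} [Group G] [Group L] [Finite G] [Finite L]

theorem exists_coatom {H : Subgroup G} (hH : H ≠ ⊤) : ∃ M : Subgroup G, IsCoatom M ∧ H ≤ M := by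
  rcases eq_top_or_exists_le_coatom H with h | h
  · exact absurd h hH
  · exact h

/-- in a `p`-group all maximal subgroups have index `p` -/
theorem card_of_isPGroup {p : ℕ} (hp : p.Prime) (h : IsPGroup p G) {M : Subgroup G} (hM : IsCoatom M) :
    Nat.card M * p = Nat.card G := by
  have : Fact p.Prime := ⟨hp⟩
  obtain ⟨n, hn⟩ := (IsPGroup.iff_card).1 h
  obtain ⟨m, hm⟩ := (IsPGroup.iff_card).1 (h.to_subgroup M)
  have hlt : Nat.card M < Nat.card G := by
    rcases (Subgroup.card_le_card_group M).lt_or_eq with h1 | h1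
    · exact h1
    · exact absurd (Subgroup.eq_top_of_card_eq M h1) hM.1
  have hmn : m < n := by
    rw [hn, hm] at hlt
    exact (Nat.pow_lt_pow_iff_right hp.one_lt).1 hlt
  have hdvd : p ^ (m + 1) ∣ Nat.card G := by rw [hn]; exact pow_dvd_pow p hmn
  obtain ⟨K, hK, hMK⟩ := Sylow.exists_subgroup_card_pow_succ hdvd hm
  have hne : M < K := by
    refine lt_of_le_of_ne hMK ?_
    rintro rfl
    rw [hm] at hK
    have := Nat.pow_right_injective hp.two_le hK
    omega
  have hK1 : K = ⊤ := hM.2 K hne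
  subst hK1
  rw [Subgroup.card_top] at hK
  rw [hm, hK, pow_succ]

/-- if `G` is not a `p`-group, each Sylow subgroup is in a maximal subgroup -/
theorem pow_dvd_coatom {p k : ℕ} (hp : p.Prime) (hG : ¬ IsPGroup p G) (h : p ^ k ∣ Nat.card G) :
    ∃ M : Subgroup G, IsCoatom M ∧ p ^ k ∣ Nat.card M := by
  have : Fact p.Prime := ⟨hp⟩
  obtain ⟨P⟩ : Nonempty (Sylow p G) := inferInstance
  have hP : (P : Subgroup G) ≠ ⊤ := by
    intro h1
    apply hG
    have h2 := P.isPGroup'
    rw [h1] at h2
    exact h2.of_equiv Subgroup.topEquiv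
  obtain ⟨M, hM, hPM⟩ := exists_coatom hP
  refine ⟨M, hM, ?_⟩
  exact (P.pow_dvd_card_of_pow_dvd_card h).trans (Subgroup.card_dvd_of_le hPM)

theorem card_dvd (hG : ∀ p : ℕ, p.Prime → ¬ IsPGroup p G) (h : Sub G L) : Nat.card G ∣ Nat.card L := by
  rw [Nat.dvd_iff_prime_pow_dvd_dvd]
  intro p k hp hk
  obtain ⟨M, hM, h1⟩ := pow_dvd_coatom hp (hG p hp) hk
  obtain ⟨M', hM', h2⟩ := h M hM
  rw [h2] at h1
  exact h1.trans (Subgroup.card_subgroup_dvd_card M')

/-- `G` is not a `p`-group if `L` is not -/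
theorem not_isPGroup (hL : ∀ p : ℕ, p.Prime → ¬ IsPGroup p L) (hLG : Sub L G) (p : ℕ) (hp : p.Prime) :
    ¬ IsPGroup p G := by
  intro h
  -- all maximal subgroups of `L` have the same order
  obtain ⟨M0, hM0⟩ : ∃ M : Subgroup L, IsCoatom M := by
    have : Nontrivial L := by
      by_contra hne
      rw [not_nontrivial_iff_subsingleton] at hne
      exact hL 2 Nat.prime_two (IsPGroup.of_card (n := 0) (by simp))
    obtain ⟨M, hM, -⟩ := exists_coatom (G := L) (H := ⊥) bot_ne_top
    exact ⟨M, hM⟩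
  have hall : ∀ M : Subgroup L, IsCoatom M → Nat.card M = Nat.card M0 := by
    intro M hM
    obtain ⟨N, hN, h1⟩ := hLG M hM
    obtain ⟨N0, hN0, h2⟩ := hLG M0 hM0
    rw [h1, h2]
    have e1 := card_of_isPGroup hp h hN
    have e2 := card_of_isPGroup hp h hN0
    exact Nat.eq_of_mul_eq_mul_right hp.pos (e1.trans e2.symm)
  have hdvd : Nat.card L ∣ Nat.card M0 := by
    rw [Nat.dvd_iff_prime_pow_dvd_dvd]
    intro r k hr hk
    obtain ⟨M, hM, h1⟩ := pow_dvd_coatom hr (hL r hr) hk
    rwa [hall M hM] at h1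
  have hle := Nat.le_of_dvd Nat.card_pos hdvd
  exact hM0.1 (Subgroup.eq_top_of_card_eq M0 (le_antisymm (Subgroup.card_le_card_group M0) hle))

theorem card_eq (hL : ∀ p : ℕ, p.Prime → ¬ IsPGroup p L) (hGL : Sub G L) (hLG : Sub L G) :
    Nat.card G = Nat.card L :=
  Nat.dvd_antisymm (card_dvd (not_isPGroup hL hLG) hGL) (card_dvd hL hLG)

/-- corresponding maximal subgroups have the same index -/
theorem index_eq (hc : Nat.card G = Nat.card L) {M : Subgroup G} {M' : Subgroup L}
    (h : Nat.card M = Nat.card M') : M.index = M'.index := by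
  have h1 := Subgroup.card_mul_index M
  have h2 := Subgroup.card_mul_index M'
  rw [hc, ← h2, h] at h1
  exact Nat.eq_of_mul_eq_mul_left Nat.card_pos h1

theorem index_factorial [IsSimpleGroup L] (hc : Nat.card G = Nat.card L) (hGL : Sub G L) {H : Subgroup G}
    (hH : H ≠ ⊤) : Nat.card G ∣ H.index.factorial := by
  obtain ⟨M, hM, hHM⟩ := exists_coatom hH
  obtain ⟨M', hM', h1⟩ := hGL M hM
  have h2 := Involutions.IndexFive.card_dvd_factorial_index M' hM'.1
  rw [← index_eq hc h1, ← hc] at h2
  refine h2.trans (Nat.factorial_dvd_factorial ?_)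
  exact Nat.le_of_dvd (Nat.pos_of_ne_zero (Subgroup.index_ne_zero_of_finite)) (Subgroup.index_dvd_of_le hHM)

/-- normal subgroup and maximal subgroup -/
theorem dichotomy {K M : Subgroup G} [K.Normal] (hM : IsCoatom M) :
    Nat.card K ∣ Nat.card M ∨ M.index ∣ Nat.card K := by
  by_cases h : K ≤ M
  · exact Or.inl (Subgroup.card_dvd_of_le h)
  · right
    have h1 : M ⊔ K = ⊤ := hM.2 _ (lt_of_le_of_ne le_sup_left fun h2 => h (h2 ▸ le_sup_right))
    have h2 : K.relIndex M = K.index := by
      rw [← Subgroup.relIndex_top_right, ← h1, Subgroup.relIndex_sup_right]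
    have h3 : Nat.card ↥(K ⊓ M) * K.relIndex M = Nat.card M := by
      rw [← Subgroup.inf_relIndex_right, ← Subgroup.relIndex_bot_left, ← Subgroup.relIndex_bot_left,
        Subgroup.relIndex_mul_relIndex _ _ _ bot_le inf_le_right]
    have h4 := Subgroup.card_mul_index M
    have h5 := Subgroup.card_mul_index K
    rw [h2] at h3
    rw [← h3, ← h5] at h4
    have h6 : (Nat.card ↥(K ⊓ M) * M.index) * K.index = Nat.card K * K.index := by rw [← h4]; ring
    have h7 := Nat.eq_of_mul_eq_mul_right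
      (Nat.pos_of_ne_zero (Subgroup.index_ne_zero_of_finite (H := K))) h6
    exact ⟨_, by rw [← h7, mul_comm]⟩

/-- a normal subgroup with simple quotient above a proper normal subgroup -/
theorem exists_simple_quotient (K₀ : Subgroup G) [K₀.Normal] (h : K₀ ≠ ⊤) :
    ∃ (K : Subgroup G) (_ : K.Normal), K₀ ≤ K ∧ K ≠ ⊤ ∧ IsSimpleGroup (G ⧸ K) := by
  classical
  obtain ⟨K, ⟨hKn, hK0, hKt⟩, hmax⟩ : ∃ K : Subgroup G, Maximal (fun K : Subgroup G => K.Normal ∧ K₀ ≤ K ∧ K ≠ ⊤) K := by
    have hfin : {K : Subgroup G | K.Normal ∧ K₀ ≤ K ∧ K ≠ ⊤}.Finite := Set.toFinite _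
    obtain ⟨K, -, hK⟩ := hfin.exists_le_maximal (a := K₀) ⟨inferInstance, le_rfl, h⟩
    exact ⟨K, hK⟩
  refine ⟨K, hKn, hK0, hKt, ?_⟩
  have : Nontrivial (G ⧸ K) := QuotientGroup.nontrivial_iff.2 hKt
  refine ⟨fun H hH => ?_⟩
  by_cases hc : H.comap (QuotientGroup.mk' K) = ⊤
  · right
    rw [← Subgroup.map_comap_eq_self_of_surjective (QuotientGroup.mk'_surjective K) H, hc]
    exact Subgroup.map_top_of_surjective _ (QuotientGroup.mk'_surjective K)
  · left
    have hKle : K ≤ H.comap (QuotientGroup.mk' K) := by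
      intro x hx
      rw [Subgroup.mem_comap, QuotientGroup.mk'_apply, (QuotientGroup.eq_one_iff x).2 hx]
      exact H.one_mem
    have h1 := hmax ⟨inferInstance, hK0.trans hKle, hc⟩ hKle
    have h2 : H.comap (QuotientGroup.mk' K) = K := le_antisymm h1 hKle
    rw [← Subgroup.map_comap_eq_self_of_surjective (QuotientGroup.mk'_surjective K) H, h2]
    exact (Subgroup.map_eq_bot_iff _).2 (by rw [QuotientGroup.ker_mk'])

end Cfsg.Agent.H439.MaxOrd
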